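import Groth.Agent.ResProp.EF.K454.CxOf
import Groth.Agent.ResProp.EF.K454.OpTor
import Groth.Agent.ResProp.EF.K980.Nodes

/-!
# `OpCpx.cpx` (980) and the complex of the total object `opGr X` (454)

`torGE_cpx : TorGE a (opGr X).cx → TorGE a X.cpx`; `torGE_cpx_of_koz`: the field `Amp.tor` from an isomorphism of the total
module with that of `kozFD`.
-/

set_option autoImplicit false

universe u

open CategoryTheory

namespace Groth.Agent.ResProp.EF.K224

open Groth.Agent.ResProp.EF.K294 Groth.Agent.ResProp.EF.K980 Groth.Agent.ResProp.EF.K454 Groth.Agent.ResProp.EF.K734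

variable {R : Type u} [CommRing R] (X : OpCpx.{u} R)

theorem opP_eq_prz (n : ℤ) (v : X.K) : opP X n v = X.prz n v := by
  rcases opP_cases X n with ⟨i, hi, rfl⟩ | hn
  · rw [opP_of X hi rfl, X.prz_neg ⟨i, hi⟩]
    rfl
  · rw [opP_zero X hn, X.prz_of_not n (by omega)]
    rfl

theorem prz_idem (n : ℤ) (v : X.K) : X.prz n (X.prz n v) = X.prz n v := by
  rw [← opP_eq_prz, ← opP_eq_prz, opP_idem]

theorem mem_deg {n : ℤ} {v : X.K} : v ∈ X.deg n ↔ X.prz n v = v := by
  constructor
  · rintro ⟨w, rfl⟩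
    exact prz_idem X n w
  · intro h
    exact ⟨v, h⟩

/-- `Amp.tor` from 454's total object -/
theorem torGE_cpx {a : ℤ} (h : TorGE a (opGr X).cx) : TorGE a X.cpx :=
  torGE_cxOf (opGr X) (N := fun n => X.deg n) (δ := fun n => (X.dn n).restrictScalars R) X.dn_dn
    (fun n => (X.deg n).subtype.restrictScalars R) (fun n => Subtype.val_injective)
    (fun n z => by
      constructor
      · rintro ⟨x, rfl⟩
        exact (opP_eq_prz X n x.1).trans ((mem_deg X).1 x.2)
      · intro hz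
        exact ⟨⟨z, (mem_deg X).2 ((opP_eq_prz X n z).symm.trans hz)⟩, rfl⟩)
    (fun n x => rfl) h

/-- `Amp.tor` from the Koszul complex -/
theorem torGE_cpx_of_koz {P : Type u} [CommRing P] [Algebra R P] {e : ℕ} {F : K734.MFil P} {G : MFilM F (Fin e → P)}
    {w : Module.Dual P (Fin e → P)} {hw : ∀ b v, v ∈ G.G b → w v ∈ F.F b} {k : ℕ} (he : X.e = e)
    (Φ : X.K ≃ₗ[R] (kozFD (R := R) F G w hw k).K)
    (hd : ∀ v, Φ (X.d v) = (kozFD (R := R) F G w hw k).op none (Φ v))
    (hp : ∀ (i : Fin (X.e + 1)) (v : X.K), Φ (X.pr i v) = (kozFD (R := R) F G w hw k).op (some i) (Φ v))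
    (h : TorGE (-e : ℤ) (kozGr R F G w hw k).cx) : TorGE (-X.e : ℤ) X.cpx := by
  rw [he]
  exact torGE_cpx X (torGE_opGr X he Φ hd hp h)

end Groth.Agent.ResProp.EF.K224
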