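import Groth.Agent.ResProp.EF.K280.FDbc
import Groth.Agent.ResProp.EF.K964.BCAlg

/-!
# `FD.bc X f ≅ Y` for a `Y` over `R₁` which is a base change of `X`

`BCr f θ` : `θ : P →+* P₁` is a base change along `f : R →+* R₁` (`R₁ ⊗[R] P = P₁`).
`IsBCof X f Y` ⟹ `IsBCof.siso : FD.SIso (bc X f) Y`.
-/

set_option autoImplicit false
set_option linter.style.haveILetI false

universe u v

namespace Groth.Agent.ResProp.EF.K224

open TensorProduct Groth.Agent.ResProp.EF.K734 Groth.Agent.ResProp.EF.K280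

section BCm

variable {R R₁ : Type u} [CommRing R] [CommRing R₁] (f : R →+* R₁)

/-- `L : M → N` is a base change of modules along `f` -/
def BCm {M N : Type v} [AddCommGroup M] [Module R M] [AddCommGroup N] [Module R₁ N] (L : M →ₛₗ[f] N) : Prop :=
  letI := f.toAlgebra
  ∃ E : (R₁ ⊗[R] M) ≃ₗ[R₁] N, ∀ m, E (1 ⊗ₜ m) = L m

/-- a ring homomorphism over `f`, as a semilinear map -/
def semi {P P₁ : Type v} [CommRing P] [CommRing P₁] [Algebra R P] [Algebra R₁ P₁] (θ : P →+* P₁)
    (hθ : ∀ r, θ (algebraMap R P r) = algebraMap R₁ P₁ (f r)) : P →ₛₗ[f] P₁ where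
  toFun := θ
  map_add' := map_add θ
  map_smul' r p := by rw [Algebra.smul_def, map_mul, hθ, Algebra.smul_def]

/-- `θ : P → P₁` is a base change of rings along `f` -/
def BCr {P P₁ : Type v} [CommRing P] [CommRing P₁] [Algebra R P] [Algebra R₁ P₁] (θ : P →+* P₁)
    (hθ : ∀ r, θ (algebraMap R P r) = algebraMap R₁ P₁ (f r)) : Prop := BCm f (semi f θ hθ)

variable {f}

theorem BCm.span {M N : Type v} [AddCommGroup M] [Module R M] [AddCommGroup N] [Module R₁ N] {L : M →ₛₗ[f] N}
    (h : BCm f L) : Submodule.span R₁ (Set.range L) = ⊤ := by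
  letI := f.toAlgebra
  obtain ⟨E, hE⟩ := h
  rw [eq_top_iff]
  intro z _
  obtain ⟨t, rfl⟩ := E.surjective z
  induction t with
  | zero => rw [map_zero]; exact zero_mem _
  | add a b ha hb => rw [map_add]; exact add_mem (ha trivial) (hb trivial)
  | tmul r m =>
    have : (r ⊗ₜ[R] m : R₁ ⊗[R] M) = r • ((1 : R₁) ⊗ₜ[R] m) := by
      rw [TensorProduct.smul_tmul', smul_eq_mul, mul_one]
    rw [this, map_smul, hE]
    exact Submodule.smul_mem _ _ (Submodule.subset_span ⟨m, rfl⟩)

/-- the case of 980's `BC` -/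
theorem BCm_bc {M : Type u} [AddCommGroup M] [Module R M] : BCm f (K980.bc f : M →ₛₗ[f] K980.BC f M) :=
  ⟨LinearEquiv.refl R₁ (K980.BC f M), fun _ => rfl⟩

theorem BCr_bcHom {P : Type u} [CommRing P] [Algebra R P] :
    BCr f (K980.BC.bcHom f : P →+* K980.BC f P) (fun r => K980.BC.bc_algebraMap r) :=
  ⟨LinearEquiv.refl R₁ (K980.BC f P), fun _ => rfl⟩

end BCm

section FD

variable {R R₁ : Type u} [CommRing R] [CommRing R₁] {I : Type} (X : FD R I) (f : R →+* R₁)

theorem BCr_canP : BCr f (canP X f) (canP_algebraMap X f) :=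
  ⟨LinearEquiv.refl R₁ (bc X f).P, fun _ => rfl⟩

theorem BCm_canK : BCm f (canK X f) :=
  ⟨LinearEquiv.refl R₁ (bc X f).K, fun _ => rfl⟩

variable {X f}

theorem liftK_bijective {N : Type u} [AddCommGroup N] [Module R₁ N] {L : X.K →ₛₗ[f] N} (h : BCm f L) :
    Function.Bijective (liftK X f L) := by
  letI := f.toAlgebra
  obtain ⟨E, hE⟩ := h
  have h1 : ∀ z : (bc X f).K, liftK X f L z = E z := by
    intro z
    induction z using indK with
    | h0 => rw [map_zero]; exact (map_zero E).symm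
    | h2 a b ha hb => rw [map_add, ha, hb]; exact (map_add E a b).symm
    | h1 r v =>
      rw [map_smul, liftK_canK]
      exact ((map_smul E r ((1 : R₁) ⊗ₜ[R] v)).trans (congrArg (r • ·) (hE v))).symm
  have h2 : (liftK X f L : (bc X f).K → N) = (E : _ → N) := funext h1
  rw [h2]
  exact E.bijective

theorem liftP_bijective {S : Type u} [CommRing S] [Algebra R₁ S] {θ : X.P →+* S}
    {hθ : ∀ r, θ (algebraMap R X.P r) = algebraMap R₁ S (f r)} (h : BCr f θ hθ) :
    Function.Bijective (liftP X f θ hθ) := by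
  letI := f.toAlgebra
  obtain ⟨E, hE⟩ := h
  have h1 : ∀ z : (bc X f).P, liftP X f θ hθ z = E z := by
    intro z
    induction z using indP with
    | h0 => rw [map_zero]; exact (map_zero E).symm
    | h2 a b ha hb => rw [map_add, ha, hb]; exact (map_add E a b).symm
    | h1 r v =>
      rw [map_smul, liftP_canP]
      exact ((map_smul E r ((1 : R₁) ⊗ₜ[R] v)).trans (congrArg (r • ·) (hE v))).symm
  have h2 : (liftP X f θ hθ : (bc X f).P → S) = (E : _ → S) := funext h1
  rw [h2]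
  exact E.bijective

variable (X f) in
/-- `Y` is the base change of `X` along `f` -/
structure IsBCof (Y : FD R₁ I) where
  θ : X.P →+* Y.P
  hθ : ∀ r, θ (algebraMap R X.P r) = algebraMap R₁ Y.P (f r)
  κ : X.K →ₛₗ[f] Y.K
  smul : ∀ p v, κ (p • v) = θ p • κ v
  bcP : BCr f θ hθ
  bcK : BCm f κ
  fil : ∀ m, Y.Fil m = (X.Fil m).map θ
  filK : ∀ m, Y.FilK m = Submodule.span Y.P (κ '' X.FilK m)
  op : ∀ i v, κ (X.op i v) = Y.op i (κ v)

namespace IsBCof

variable {Y : FD R₁ I} (h : IsBCof X f Y)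

/-- the isomorphism of rings -/
noncomputable def φ : (bc X f).P ≃ₐ[R₁] Y.P := AlgEquiv.ofBijective (liftP X f h.θ h.hθ) (liftP_bijective h.bcP)

/-- the isomorphism of modules -/
noncomputable def ψ : (bc X f).K ≃ₗ[R₁] Y.K := LinearEquiv.ofBijective (liftK X f h.κ) (liftK_bijective h.bcK)

@[simp] theorem φ_canP (p : X.P) : h.φ (canP X f p) = h.θ p := liftP_canP X f h.θ h.hθ p

@[simp] theorem ψ_canK (v : X.K) : h.ψ (canK X f v) = h.κ v := liftK_canK X f h.κ v

theorem ψ_smul (x : (bc X f).P) (v : (bc X f).K) : h.ψ (x • v) = h.φ x • h.ψ v := by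
  induction v using indK with
  | h0 => rw [smul_zero, map_zero, smul_zero]
  | h2 a b ha hb => rw [smul_add, map_add, map_add, smul_add, ha, hb]
  | h1 s v =>
    induction x using indP with
    | h0 => rw [zero_smul, map_zero, map_zero, zero_smul]
    | h2 a b ha hb => rw [add_smul, map_add, map_add, add_smul, ha, hb]
    | h1 r p =>
      have e1 : h.φ (r • canP X f p) = r • h.θ p := by rw [map_smul, φ_canP]
      have e2 : h.ψ (s • canK X f v) = s • h.κ v := by rw [map_smul, ψ_canK]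
      have e3 : h.ψ ((r * s) • canK X f (p • v)) = (r * s) • h.κ (p • v) := by
        rw [h.ψ.map_smul (r * s) (canK X f (p • v)), ψ_canK]
      rw [e1, e2, smul_smul_mul, ← canK_smul, e3, smul_smul_mul, h.smul]

theorem ψ_mem {m : ℕ} {v : (bc X f).K} (hv : v ∈ (bc X f).FilK m) : h.ψ v ∈ Y.FilK m := by
  rw [FilK_bc] at hv
  refine Submodule.span_induction (p := fun v _ => h.ψ v ∈ Y.FilK m) ?_ ?_ ?_ ?_ hv
  · rintro _ ⟨v, hv, rfl⟩
    rw [ψ_canK, h.filK]
    exact Submodule.subset_span ⟨v, hv, rfl⟩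
  · rw [map_zero]; exact zero_mem _
  · intro a b _ _ ha hb
    rw [map_add]; exact add_mem ha hb
  · intro x v _ hv
    rw [ψ_smul]
    exact Submodule.smul_mem _ _ hv

theorem ψ_symm_mem {m : ℕ} {v : Y.K} (hv : v ∈ Y.FilK m) : h.ψ.symm v ∈ (bc X f).FilK m := by
  rw [h.filK] at hv
  refine Submodule.span_induction (p := fun v _ => h.ψ.symm v ∈ (bc X f).FilK m) ?_ ?_ ?_ ?_ hv
  · rintro _ ⟨v, hv, rfl⟩
    rw [← ψ_canK, LinearEquiv.symm_apply_apply]
    exact canK_mem X f hv
  · rw [map_zero]; exact zero_mem _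
  · intro a b _ _ ha hb
    rw [map_add]; exact add_mem ha hb
  · intro x v _ hv
    have : h.ψ.symm (x • v) = h.φ.symm x • h.ψ.symm v := by
      apply h.ψ.injective
      rw [ψ_smul, LinearEquiv.apply_symm_apply, LinearEquiv.apply_symm_apply, AlgEquiv.apply_symm_apply]
    rw [this]
    exact Submodule.smul_mem _ _ hv

theorem φ_mem {m : ℕ} {x : (bc X f).P} (hx : x ∈ (bc X f).Fil m) : h.φ x ∈ Y.Fil m := by
  rw [Fil_bc, Ideal.map] at hx
  refine Submodule.span_induction (p := fun v _ => h.φ v ∈ Y.Fil m) ?_ ?_ ?_ ?_ hx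
  · rintro _ ⟨v, hv, rfl⟩
    rw [φ_canP, h.fil]
    exact Ideal.mem_map_of_mem _ hv
  · rw [map_zero]; exact zero_mem _
  · intro a b _ _ ha hb
    rw [map_add]; exact add_mem ha hb
  · intro x v _ hv
    rw [smul_eq_mul, map_mul]
    exact (Y.Fil m).mul_mem_left _ hv

theorem φ_symm_mem {m : ℕ} {x : Y.P} (hx : x ∈ Y.Fil m) : h.φ.symm x ∈ (bc X f).Fil m := by
  rw [h.fil, Ideal.map] at hx
  refine Submodule.span_induction (p := fun v _ => h.φ.symm v ∈ (bc X f).Fil m) ?_ ?_ ?_ ?_ hx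
  · rintro _ ⟨v, hv, rfl⟩
    rw [← φ_canP, AlgEquiv.symm_apply_apply]
    exact canP_mem X f hv
  · rw [map_zero]; exact zero_mem _
  · intro a b _ _ ha hb
    rw [map_add]; exact add_mem ha hb
  · intro x v _ hv
    rw [smul_eq_mul, map_mul]
    exact ((bc X f).Fil m).mul_mem_left _ hv

/-- the isomorphism of `FD`s -/
noncomputable def siso : FD.SIso (bc X f) Y where
  φ := h.φ
  ψ := h.ψ
  semi := h.ψ_smul
  fil m v := ⟨h.ψ_mem, fun hv => by simpa using h.ψ_symm_mem hv⟩
  filP m x := ⟨h.φ_mem, fun hx => by simpa using h.φ_symm_mem hx⟩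
  opc i v := by
    have e1 : ∀ (r : R₁) (w : (bc X f).K), (bc X f).op i (r • w) = r • (bc X f).op i w :=
      fun r w => by rw [← algebraMap_smul (bc X f).P r w, map_smul, algebraMap_smul]
    have e2 : ∀ (r : R₁) (w : Y.K), Y.op i (r • w) = r • Y.op i w :=
      fun r w => by rw [← algebraMap_smul Y.P r w, map_smul, algebraMap_smul]
    induction v using indK with
    | h0 => rw [map_zero, map_zero, map_zero]
    | h2 a b ha hb => rw [map_add, map_add, map_add, map_add, ha, hb]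
    | h1 s v => rw [e1, map_smul, op_canK, ψ_canK, map_smul, ψ_canK, e2, h.op]

@[simp] theorem siso_φ : h.siso.φ = h.φ := rfl

@[simp] theorem siso_ψ : h.siso.ψ = h.ψ := rfl

end IsBCof

end FD

end Groth.Agent.ResProp.EF.K224
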