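import Groth.Agent.ResProp.EF.K224.KosBasis
import Mathlib.RingTheory.TensorProduct.Free

/-!
# Base change of the exterior algebra with its weight filtration

`bcK P P' e : KA P e →ₐ[P] KA P' e`; `FilK' = P'-span of the image`; `IsBaseChange` for `KA` and for
`KK = KA / FilK (k + 1)` along `R → R'` if `P' = R' ⊗[R] P`.
-/

set_option autoImplicit false

namespace Groth.Agent.ResProp.EF.K224.Kos

open Module ExteriorAlgebra TensorProduct

section General

/-- quotients commute with base change -/
theorem isBaseChange_mapQ {R S M N : Type*} [CommRing R] [CommRing S] [Algebra R S] [AddCommGroup M] [Module R M]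
    [AddCommGroup N] [Module R N] [Module S N] [IsScalarTower R S N] {f : M →ₗ[R] N} (hf : IsBaseChange S f)
    (F : Submodule R M) (F' : Submodule S N) (h : F' = Submodule.span S (f '' F))
    (g : (M ⧸ F) →ₗ[R] (N ⧸ F')) (hg : ∀ x, g (F.mkQ x) = F'.mkQ (f x)) : IsBaseChange S g := by
  let f' : (S ⊗[R] F) →ₗ[S] N := hf.equiv.toLinearMap ∘ₗ F.subtype.baseChange S
  have h1 : ∀ (s : S) (x : F), f' (s ⊗ₜ x) = s • f x := fun s x => by
    simp [f', hf.equiv_tmul]
  refine IsBaseChange.of_right_exact S (TensorProduct.mk R S F 1) f g (f := F.subtype) (g := F.mkQ) (f' := f')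
    (g' := F'.mkQ) ?_ ?_ (TensorProduct.isBaseChange R F S) hf ?_ F.mkQ_surjective ?_ F'.mkQ_surjective
  · ext x
    simp [h1]
  · ext x
    exact hg x
  · rw [LinearMap.exact_iff, Submodule.ker_mkQ, Submodule.range_subtype]
  · rw [LinearMap.exact_iff, Submodule.ker_mkQ, h]
    apply le_antisymm
    · rw [Submodule.span_le]
      rintro _ ⟨x, hx, rfl⟩
      exact ⟨1 ⊗ₜ ⟨x, hx⟩, by rw [h1, one_smul]⟩
    · rintro _ ⟨t, rfl⟩
      induction t with
      | zero => rw [map_zero]; exact zero_mem _
      | add a b ha hb => rw [map_add]; exact add_mem ha hb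
      | tmul s x => rw [h1]; exact Submodule.smul_mem _ _ (Submodule.subset_span ⟨x, x.2, rfl⟩)

end General

section BC

variable (P P' : Type*) [CommRing P] [CommRing P'] [Algebra P P'] (e : ℕ)

/-- `P^e → P'^e` -/
def bcv : (Fin e → P) →ₗ[P] (Fin e → P') := (Algebra.linearMap P P').compLeft (Fin e)

theorem bcv_apply (v : Fin e → P) (i : Fin e) : bcv P P' e v i = algebraMap P P' (v i) := rfl

theorem bcv_single (i : Fin e) : bcv P P' e (Pi.single i 1) = Pi.single i 1 := by
  classical
  funext j
  rw [bcv_apply, Pi.single_apply, Pi.single_apply]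
  split_ifs <;> simp

/-- `Λ(P^e) → Λ(P'^e)` -/
noncomputable def bcK : KA P e →ₐ[P] KA P' e :=
  ExteriorAlgebra.lift P ⟨((ExteriorAlgebra.ι P' : (Fin e → P') →ₗ[P'] KA P' e).restrictScalars P) ∘ₗ bcv P P' e,
    fun _ => ExteriorAlgebra.ι_sq_zero _⟩

theorem bcK_ι (v : Fin e → P) : bcK P P' e (ExteriorAlgebra.ι P v) = ExteriorAlgebra.ι P' (bcv P P' e v) := by
  exact ExteriorAlgebra.lift_ι_apply P _ _ v

theorem bcK_eb (I : Finset (Fin e)) : bcK P P' e (eb P e I) = eb P' e I := by
  rw [eb_apply, eb_apply, ιMulti_apply, ιMulti_apply, map_list_prod, List.map_ofFn]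
  congr 2
  funext j
  rw [Function.comp_apply, bcK_ι, bcv_single]

theorem bcK_smul (a : P) (x : KA P e) : bcK P P' e (a • x) = algebraMap P P' a • bcK P P' e x := by
  rw [map_smul, algebraMap_smul]

theorem bcK_repr (x : KA P e) (I : Finset (Fin e)) :
    (eb P' e).repr (bcK P P' e x) I = algebraMap P P' ((eb P e).repr x I) := by
  classical
  conv_lhs => rw [← (eb P e).sum_repr x]
  rw [map_sum, map_sum, Finsupp.finsetSum_apply]
  rw [Finset.sum_eq_single I]
  · rw [bcK_smul, bcK_eb, map_smul, Basis.repr_self]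
    simp [Algebra.smul_def]
  · intro J _ hJ
    rw [bcK_smul, bcK_eb, map_smul, Basis.repr_self]
    simp [hJ]
  · intro h
    exact absurd (Finset.mem_univ I) h

variable {P P' e}

theorem bcK_mem {Fil : ℕ → Ideal P} {Fil' : ℕ → Ideal P'} {w : Fin e → ℕ}
    (hF : ∀ m, (Fil m).map (algebraMap P P') ≤ Fil' m) {m : ℕ} {x : KA P e} (hx : x ∈ FilK Fil w m) :
    bcK P P' e x ∈ FilK Fil' w m := by
  intro I
  rw [bcK_repr]
  exact hF _ (Ideal.mem_map_of_mem _ (hx I))

/-- the filtration of the base change is generated by the image -/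
theorem FilK_eq_span_bcK {Fil : ℕ → Ideal P} {Fil' : ℕ → Ideal P'} {w : Fin e → ℕ}
    (hF : ∀ m, Fil' m = (Fil m).map (algebraMap P P')) (m : ℕ) :
    FilK Fil' w m = Submodule.span P' (bcK P P' e '' FilK Fil w m) := by
  apply le_antisymm
  · rw [FilK_le_iff]
    intro I c hc
    rw [hF] at hc
    refine Submodule.span_induction (p := fun c _ => c • eb P' e I ∈ Submodule.span P' (bcK P P' e '' FilK Fil w m))
      ?_ ?_ ?_ ?_ hc
    · rintro _ ⟨a, ha, rfl⟩
      refine Submodule.subset_span ⟨a • eb P e I, smul_eb_mem ha, ?_⟩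
      rw [bcK_smul, bcK_eb]
    · rw [zero_smul]; exact zero_mem _
    · intro x y _ _ hx hy
      rw [add_smul]; exact add_mem hx hy
    · intro a x _ hx
      rw [smul_assoc]
      exact Submodule.smul_mem _ _ hx
  · rw [Submodule.span_le]
    rintro _ ⟨x, hx, rfl⟩
    exact bcK_mem (fun m => (hF m).ge) hx

/-- the contraction commutes with `bcK` -/
theorem bcK_contractLeft (φ : Module.Dual P (Fin e → P)) (φ' : Module.Dual P' (Fin e → P'))
    (h : ∀ v, φ' (bcv P P' e v) = algebraMap P P' (φ v)) (x : KA P e) :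
    bcK P P' e (CliffordAlgebra.contractLeft φ x) = CliffordAlgebra.contractLeft φ' (bcK P P' e x) := by
  induction x using CliffordAlgebra.left_induction with
  | algebraMap r =>
    rw [CliffordAlgebra.contractLeft_algebraMap, map_zero, AlgHom.commutes,
      IsScalarTower.algebraMap_apply P P' (KA P' e)]
    exact (CliffordAlgebra.contractLeft_algebraMap _ _ _).symm
  | add x y hx hy => rw [map_add, map_add, map_add, map_add, hx, hy]
  | ι_mul x v hx =>
    rw [CliffordAlgebra.contractLeft_ι_mul, map_sub, map_mul, map_mul, bcK_smul, hx]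
    erw [bcK_ι]
    erw [CliffordAlgebra.contractLeft_ι_mul]
    rw [h]

/-- `KA P' e = P' ⊗ KA P e` -/
theorem isBaseChange_bcK : IsBaseChange P' (bcK P P' e).toLinearMap := by
  refine IsBaseChange.of_equiv ((Algebra.TensorProduct.basis P' (eb P e)).equiv (eb P' e) (Equiv.refl _)) ?_
  intro x
  rw [← (eb P e).sum_repr x, TensorProduct.tmul_sum, map_sum, map_sum]
  refine Finset.sum_congr rfl fun I _ => ?_
  have h1 := (Algebra.TensorProduct.basis P' (eb P e)).equiv_apply I (eb P' e) (Equiv.refl _)
  rw [Algebra.TensorProduct.basis_apply] at h1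
  rw [TensorProduct.tmul_smul, algebra_compatible_smul P', map_smul, h1, Equiv.refl_apply]
  change _ = bcK P P' e _
  rw [bcK_smul, bcK_eb]

end BC

section Pushout

variable (R R' : Type*) {P P' : Type*} [CommRing R] [CommRing R'] [CommRing P] [CommRing P'] [Algebra R R'] [Algebra R P]
  [Algebra R' P'] [Algebra R P'] [Algebra P P'] [IsScalarTower R R' P'] [IsScalarTower R P P'] [Algebra.IsPushout R R' P P']

/-- a `P`-linear base change to `P' = R' ⊗[R] P` is an `R`-linear base change to `R'` -/
theorem isBaseChange_restrict {M N : Type*} [AddCommGroup M] [Module P M] [Module R M] [IsScalarTower R P M]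
    [AddCommGroup N] [Module P' N] [Module P N] [IsScalarTower P P' N] [Module R' N] [IsScalarTower R' P' N]
    [Module R N] [IsScalarTower R P N] [IsScalarTower R R' N] {f : M →ₗ[P] N} (hf : IsBaseChange P' f) :
    IsBaseChange R' (f.restrictScalars R) := by
  refine IsBaseChange.of_equiv ((Algebra.IsPushout.cancelBaseChange R R' P P' M).symm ≪≫ₗ hf.equiv.restrictScalars R') ?_
  intro x
  simp [hf.equiv_tmul]

end Pushout

end Groth.Agent.ResProp.EF.K224.Kos
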