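import Mathlib.LinearAlgebra.ExteriorAlgebra.Basis
import Mathlib.LinearAlgebra.CliffordAlgebra.Contraction
import Mathlib.RingTheory.TensorProduct.IsBaseChangeFree
import Mathlib.RingTheory.TensorProduct.IsBaseChangeRightExact

/-!
# The exterior algebra of `P^e` with weights: basis, filtration, contraction, base change

`KA P e = ExteriorAlgebra P (Fin e → P)`, `eb P e : Basis (Finset (Fin e)) P (KA P e)` (products of the standard vectors), `wt w I = ∑ i ∈ I, w i`,
`FilK Fil w m = ⊕_I Fil (m - wt w I) e_I`.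
-/

set_option autoImplicit false

namespace Groth.Agent.ResProp.EF.K224.Kos

open Module ExteriorAlgebra

section Basis

variable (P : Type*) [CommRing P] (e : ℕ)

/-- the exterior algebra of `P^e` -/
abbrev KA : Type _ := ExteriorAlgebra P (Fin e → P)

/-- the basis `e_I` -/
noncomputable def eb : Basis (Finset (Fin e)) P (KA P e) := (Pi.basisFun P (Fin e)).ExteriorAlgebra

theorem eb_apply (I : Finset (Fin e)) : eb P e I =
    ιMulti P I.card (fun j : Fin I.card => (Pi.single (I.orderEmbOfFin rfl j) 1 : Fin e → P)) := by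
  rw [eb, ExteriorAlgebra.basis_apply]
  simp only [ιMulti_family]
  congr 1
  funext j
  simp only [Set.powersetCard.prodEquiv_symm_apply, Function.comp_apply, Pi.basisFun_apply]
  rw [Set.powersetCard.ofFinEmbEquiv_symm_apply]
  rfl

@[simp] theorem eb_empty : eb P e ∅ = 1 := by
  rw [eb_apply]
  exact ιMulti_zero_apply _

theorem eb_singleton (i : Fin e) : eb P e {i} = ExteriorAlgebra.ι P (Pi.single i 1) := by
  rw [eb_apply, ιMulti_apply]
  have h : ∀ j, ({i} : Finset (Fin e)).orderEmbOfFin rfl j = i := fun j =>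
    Finset.mem_singleton.1 (Finset.orderEmbOfFin_mem _ _ j)
  simp only [h, List.ofFn_const]
  simp

theorem eb_mul_of_not_disjoint {I J : Finset (Fin e)} (h : ¬ Disjoint I J) : eb P e I * eb P e J = 0 :=
  ExteriorAlgebra.basis_mul_of_not_disjoint (Pi.basisFun P (Fin e)) (Set.powersetCard.ofCard (s := I) rfl)
    (Set.powersetCard.ofCard (s := J) rfl) h

theorem eb_mul_of_disjoint {I J : Finset (Fin e)} (h : Disjoint I J) :
    ∃ s : ℤˣ, eb P e I * eb P e J = s • eb P e (I ∪ J) := by
  have h' : Disjoint (Set.powersetCard.ofCard (s := I) rfl).val (Set.powersetCard.ofCard (s := J) rfl).val := h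
  refine ⟨Equiv.Perm.sign (Set.powersetCard.permOfDisjoint h'), ?_⟩
  have h1 := ExteriorAlgebra.basis_mul_of_disjoint (Pi.basisFun P (Fin e)) (Set.powersetCard.ofCard (s := I) rfl)
    (Set.powersetCard.ofCard (s := J) rfl) h'
  rw [Set.powersetCard.coe_disjUnion, Finset.disjUnion_eq_union] at h1
  exact h1

theorem ι_mul_eb_of_mem {i : Fin e} {I : Finset (Fin e)} (h : i ∈ I) :
    ExteriorAlgebra.ι P (Pi.single i 1) * eb P e I = 0 := by
  rw [← eb_singleton]
  exact eb_mul_of_not_disjoint P e (by simpa using h)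

theorem ι_mul_eb {i : Fin e} {I : Finset (Fin e)} (h : i ∉ I) :
    ∃ s : ℤˣ, ExteriorAlgebra.ι P (Pi.single i 1) * eb P e I = s • eb P e (insert i I) := by
  rw [← eb_singleton]
  obtain ⟨s, hs⟩ := eb_mul_of_disjoint P e (I := {i}) (J := I) (by simpa using h)
  exact ⟨s, by rw [hs, Finset.insert_eq]⟩

instance : Module.Free P (KA P e) := Module.Free.of_basis (eb P e)
instance : Module.Finite P (KA P e) := Module.Finite.of_basis (eb P e)

end Basis


section Filtration

variable {P : Type*} [CommRing P] {e : ℕ}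

/-- the weight of a subset -/
def wt (w : Fin e → ℕ) (I : Finset (Fin e)) : ℕ := ∑ i ∈ I, w i

@[simp] theorem wt_empty (w : Fin e → ℕ) : wt w ∅ = 0 := Finset.sum_empty
@[simp] theorem wt_singleton (w : Fin e → ℕ) (i : Fin e) : wt w {i} = w i := Finset.sum_singleton _ _

theorem wt_union (w : Fin e → ℕ) {I J : Finset (Fin e)} (h : Disjoint I J) : wt w (I ∪ J) = wt w I + wt w J :=
  Finset.sum_union h

theorem wt_insert (w : Fin e → ℕ) {i : Fin e} {I : Finset (Fin e)} (h : i ∉ I) : wt w (insert i I) = w i + wt w I :=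
  Finset.sum_insert h

theorem wt_le (w : Fin e → ℕ) (I : Finset (Fin e)) : wt w I ≤ ∑ i, w i :=
  Finset.sum_le_sum_of_subset (Finset.subset_univ I)

/-- a descending multiplicative filtration by ideals -/
structure MFil (Fil : ℕ → Ideal P) : Prop where
  zero : Fil 0 = ⊤
  anti : Antitone Fil
  mul : ∀ a b x y, x ∈ Fil a → y ∈ Fil b → x * y ∈ Fil (a + b)

variable (Fil : ℕ → Ideal P) (w : Fin e → ℕ)

/-- `FilK m = ⊕_I Fil (m - wt I) e_I` -/
def FilK (m : ℕ) : Submodule P (KA P e) where
  carrier := {x | ∀ I, (eb P e).repr x I ∈ Fil (m - wt w I)}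
  zero_mem' I := by simp
  add_mem' {x y} hx hy I := by
    rw [map_add, Finsupp.add_apply]
    exact (Fil _).add_mem (hx I) (hy I)
  smul_mem' c x hx I := by
    rw [map_smul, Finsupp.smul_apply, smul_eq_mul]
    exact (Fil _).mul_mem_left _ (hx I)

variable {Fil w}

theorem mem_FilK {m : ℕ} {x : KA P e} : x ∈ FilK Fil w m ↔ ∀ I, (eb P e).repr x I ∈ Fil (m - wt w I) := Iff.rfl

theorem smul_eb_mem {m : ℕ} {I : Finset (Fin e)} {c : P} (hc : c ∈ Fil (m - wt w I)) : c • eb P e I ∈ FilK Fil w m := by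
  classical
  intro J
  rw [map_smul, Basis.repr_self, Finsupp.smul_single, smul_eq_mul, mul_one, Finsupp.single_apply]
  split_ifs with h
  · rw [← h]; exact hc
  · exact zero_mem _

theorem units_smul_mem {M : Type*} [AddCommGroup M] [Module P M] (N : Submodule P M) (s : ℤˣ) {x : M} (hx : x ∈ N) :
    s • x ∈ N := by
  rcases Int.units_eq_one_or s with rfl | rfl
  · rwa [one_smul]
  · rw [Units.neg_smul, one_smul]
    exact neg_mem hx

/-- the defining property of `FilK m` as a span -/
theorem FilK_le_iff {m : ℕ} {N : Submodule P (KA P e)} :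
    FilK Fil w m ≤ N ↔ ∀ I, ∀ c ∈ Fil (m - wt w I), c • eb P e I ∈ N := by
  refine ⟨fun h I c hc => h (smul_eb_mem hc), fun h x hx => ?_⟩
  rw [← (eb P e).sum_repr x]
  exact sum_mem fun I _ => h I _ (hx I)

theorem FilK_induction {m : ℕ} {q : KA P e → Prop} (h0 : q 0) (hadd : ∀ x y, q x → q y → q (x + y))
    (h : ∀ I, ∀ c ∈ Fil (m - wt w I), q (c • eb P e I)) {x : KA P e} (hx : x ∈ FilK Fil w m) : q x := by
  rw [← (eb P e).sum_repr x]
  exact Finset.sum_induction _ q hadd h0 fun I _ => h I _ (hx I)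

theorem FilK_zero (h : MFil Fil) : FilK Fil w 0 = ⊤ := by
  rw [eq_top_iff]
  intro x _ I
  rw [Nat.zero_sub, h.zero]
  trivial

theorem FilK_anti (h : MFil Fil) : Antitone (FilK Fil w) := by
  intro m n hmn x hx I
  exact h.anti (Nat.sub_le_sub_right hmn _) (hx I)

theorem smul_mem_FilK (h : MFil Fil) {a m : ℕ} {c : P} {x : KA P e} (hc : c ∈ Fil a) (hx : x ∈ FilK Fil w m) :
    c • x ∈ FilK Fil w (a + m) := by
  intro I
  rw [map_smul, Finsupp.smul_apply, smul_eq_mul]
  exact h.anti (by omega) (h.mul _ _ _ _ hc (hx I))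

theorem mul_mem_FilK (h : MFil Fil) {m n : ℕ} {x y : KA P e} (hx : x ∈ FilK Fil w m) (hy : y ∈ FilK Fil w n) :
    x * y ∈ FilK Fil w (m + n) := by
  refine FilK_induction (q := fun x => x * y ∈ FilK Fil w (m + n)) (by simp)
    (fun a b ha hb => by rw [add_mul]; exact add_mem ha hb) ?_ hx
  intro I c hc
  refine FilK_induction (q := fun y => (c • eb P e I) * y ∈ FilK Fil w (m + n)) (by simp)
    (fun a b ha hb => by rw [mul_add]; exact add_mem ha hb) ?_ hy
  intro J c' hc'
  rw [smul_mul_smul_comm]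
  by_cases hIJ : Disjoint I J
  · obtain ⟨s, hs⟩ := eb_mul_of_disjoint P e hIJ
    rw [hs, smul_comm]
    apply units_smul_mem
    apply smul_eb_mem
    refine h.anti ?_ (h.mul _ _ _ _ hc hc')
    rw [wt_union w hIJ]
    omega
  · rw [eb_mul_of_not_disjoint P e hIJ, smul_zero]
    exact zero_mem _

theorem eb_mem (h : MFil Fil) (I : Finset (Fin e)) : eb P e I ∈ FilK Fil w (wt w I) := by
  rw [← one_smul P (eb P e I)]
  apply smul_eb_mem
  rw [Nat.sub_self, h.zero]
  trivial

theorem one_mem_FilK (h : MFil Fil) : (1 : KA P e) ∈ FilK Fil w 0 := by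
  rw [FilK_zero h]
  trivial

/-- the filtration of `P^e` -/
def FilE (Fil : ℕ → Ideal P) (w : Fin e → ℕ) (b : ℕ) : Submodule P (Fin e → P) where
  carrier := {v | ∀ i, v i ∈ Fil (b - w i)}
  zero_mem' i := by simp
  add_mem' hx hy i := (Fil _).add_mem (hx i) (hy i)
  smul_mem' c x hx i := (Fil _).mul_mem_left _ (hx i)

theorem mem_FilE {b : ℕ} {v : Fin e → P} : v ∈ FilE Fil w b ↔ ∀ i, v i ∈ Fil (b - w i) := Iff.rfl

theorem repr_ι (v : Fin e → P) : ExteriorAlgebra.ι P v = ∑ i, v i • eb P e {i} := by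
  simp_rw [eb_singleton]
  conv_lhs => rw [pi_eq_sum_univ' v, map_sum]
  simp_rw [map_smul]

theorem ι_mem (b : ℕ) {v : Fin e → P} (hv : v ∈ FilE Fil w b) : ExteriorAlgebra.ι P v ∈ FilK Fil w b := by
  rw [repr_ι]
  refine sum_mem fun i _ => smul_eb_mem ?_
  rw [wt_singleton]
  exact hv i

theorem single_mem (h : MFil Fil) (i : Fin e) : (Pi.single i 1 : Fin e → P) ∈ FilE Fil w (w i) := by
  classical
  intro j
  rw [Pi.single_apply]
  split_ifs with hj
  · subst hj
    rw [Nat.sub_self, h.zero]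
    trivial
  · exact zero_mem _

/-- `e_I` as a product -/
theorem eb_insert_of_lt {i : Fin e} {I : Finset (Fin e)} (hi : i ∉ I) :
    ∃ s : ℤˣ, eb P e (insert i I) = s • (ExteriorAlgebra.ι P (Pi.single i 1) * eb P e I) := by
  obtain ⟨s, hs⟩ := ι_mul_eb P e hi
  refine ⟨s, ?_⟩
  rw [hs, smul_smul, Int.units_mul_self, one_smul]

/-- MINIMALITY: `FilK` is the smallest multiplicative filtration `F` of `KA` with `1 ∈ F 0`, `Fil a • F m ≤ F (a + m)`, `ι e_i * F m ≤ F (m + w i)`. -/
theorem FilK_le_of (h : MFil Fil) (F : ℕ → Submodule P (KA P e)) (h1 : (1 : KA P e) ∈ F 0) (hanti : Antitone F)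
    (hs : ∀ a m, ∀ c ∈ Fil a, ∀ x ∈ F m, c • x ∈ F (a + m))
    (hι : ∀ i m, ∀ x ∈ F m, ExteriorAlgebra.ι P (Pi.single i 1) * x ∈ F (w i + m)) (m : ℕ) : FilK Fil w m ≤ F m := by
  classical
  have h2 : ∀ I : Finset (Fin e), eb P e I ∈ F (wt w I) := by
    intro I
    induction I using Finset.induction_on with
    | empty => simpa using h1
    | insert i I hi ih =>
      obtain ⟨s, hs'⟩ := eb_insert_of_lt (P := P) hi
      rw [hs', wt_insert w hi]
      exact units_smul_mem _ _ (hι i _ _ ih)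
  rw [FilK_le_iff]
  intro I c hc
  exact hanti (by omega) (hs _ _ c hc _ (h2 I))

/-- the generators of 734's description: `x ι(v₁) ⋯ ι(v_r)`, `x ∈ Fil a`, `v_i ∈ Fil^{b_i} E`, `a + ∑ b_i ≥ m` -/
inductive Gen (Fil : ℕ → Ideal P) (w : Fin e → ℕ) : ℕ → KA P e → Prop
  | scal (a : ℕ) (c : P) : c ∈ Fil a → Gen Fil w a (algebraMap P _ c)
  | mul (b m : ℕ) (v : Fin e → P) (x : KA P e) : v ∈ FilE Fil w b → Gen Fil w m x → Gen Fil w (b + m) (ExteriorAlgebra.ι P v * x)

theorem Gen.mem (h : MFil Fil) {m : ℕ} {x : KA P e} (hx : Gen Fil w m x) : x ∈ FilK Fil w m := by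
  induction hx with
  | scal a c hc =>
    rw [Algebra.algebraMap_eq_smul_one]
    exact smul_mem_FilK h hc (one_mem_FilK h)
  | mul b m v x hv _ ih => exact mul_mem_FilK h (ι_mem b hv) ih

theorem Gen.smul (h : MFil Fil) {a m : ℕ} {c : P} {x : KA P e} (hc : c ∈ Fil a) (hx : Gen Fil w m x) :
    Gen Fil w (a + m) (c • x) := by
  induction hx with
  | scal a' c' hc' =>
    rw [Algebra.smul_def, ← map_mul]
    exact Gen.scal _ _ (h.mul _ _ _ _ hc hc')
  | mul b m v x hv _ ih =>
    have : c • (ExteriorAlgebra.ι P v * x) = ExteriorAlgebra.ι P v * (c • x) := by rw [mul_smul_comm]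
    rw [this, show a + (b + m) = b + (a + m) by ring]
    exact Gen.mul _ _ _ _ hv ih

/-- the span description -/
theorem FilK_eq_span (h : MFil Fil) (m : ℕ) :
    FilK Fil w m = Submodule.span P {x | ∃ n, m ≤ n ∧ Gen Fil w n x} := by
  apply le_antisymm
  · refine FilK_le_of h (fun m => Submodule.span P {x | ∃ n, m ≤ n ∧ Gen Fil w n x}) ?_ ?_ ?_ ?_ m
    · refine Submodule.subset_span ⟨0, le_rfl, ?_⟩
      have := Gen.scal (Fil := Fil) (w := w) 0 1 (by rw [h.zero]; trivial)
      rwa [map_one] at this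
    · intro a b hab
      exact Submodule.span_mono fun x ⟨n, hn, hx⟩ => ⟨n, hab.trans hn, hx⟩
    · intro a m c hc x hx
      refine Submodule.span_induction ?_ ?_ ?_ ?_ hx
      · rintro y ⟨n, hn, hy⟩
        exact Submodule.subset_span ⟨a + n, by omega, hy.smul h hc⟩
      · rw [smul_zero]; exact zero_mem _
      · intro y z _ _ hy hz
        rw [smul_add]; exact add_mem hy hz
      · intro r y _ hy
        rw [smul_comm]
        exact Submodule.smul_mem _ _ hy
    · intro i m x hx
      refine Submodule.span_induction ?_ ?_ ?_ ?_ hx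
      · rintro y ⟨n, hn, hy⟩
        exact Submodule.subset_span ⟨w i + n, by omega, Gen.mul _ _ _ _ (single_mem h i) hy⟩
      · rw [mul_zero]; exact zero_mem _
      · intro y z _ _ hy hz
        rw [mul_add]; exact add_mem hy hz
      · intro r y _ hy
        rw [mul_smul_comm]
        exact Submodule.smul_mem _ _ hy
  · rw [Submodule.span_le]
    rintro x ⟨n, hn, hx⟩
    exact FilK_anti h hn (hx.mem h)

/-- the contraction with `φ : P^e → P`, `φ (e_i) ∈ Fil (w i)`, preserves the filtration -/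
theorem contractLeft_mem (h : MFil Fil) (φ : Module.Dual P (Fin e → P)) (hφ : ∀ i, φ (Pi.single i 1) ∈ Fil (w i))
    {m : ℕ} {x : KA P e} (hx : x ∈ FilK Fil w m) : CliffordAlgebra.contractLeft φ x ∈ FilK Fil w m := by
  classical
  have h2 : ∀ I : Finset (Fin e), CliffordAlgebra.contractLeft φ (eb P e I) ∈ FilK Fil w (wt w I) := by
    intro I
    induction I using Finset.induction_on with
    | empty =>
      rw [eb_empty]
      erw [CliffordAlgebra.contractLeft_one]
      exact zero_mem _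
    | insert i I hi ih =>
      obtain ⟨s, hs'⟩ := eb_insert_of_lt (P := P) hi
      rw [hs', wt_insert w hi]
      rw [Units.smul_def, map_zsmul, ← Units.smul_def]
      apply units_smul_mem
      erw [CliffordAlgebra.contractLeft_ι_mul]
      exact sub_mem (smul_mem_FilK h (hφ i) (eb_mem h I)) (mul_mem_FilK h (ι_mem _ (single_mem h i)) ih)
  refine FilK_induction (q := fun x => CliffordAlgebra.contractLeft φ x ∈ FilK Fil w m) (by simp)
    (fun a b ha hb => by rw [map_add]; exact add_mem ha hb) ?_ hx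
  intro I c hc
  rw [map_smul]
  exact FilK_anti h (by omega) (smul_mem_FilK h hc (h2 I))

end Filtration

end Groth.Agent.ResProp.EF.K224.Kos
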