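import Groth.Agent.ResProp.EF.K224.KosKK
import Groth.Agent.ResProp.EF.K734.Ops

/-!
# `KK` as an `FD` (734), and truncation of the ring

`KKfd` : the `FD` of `(P, Fil, w, φ, k)`.  `bcKKequiv`: `KK(P) = KK(P')` if `P → P'` is onto and `Fil m` is the preimage
of `Fil' m` for `m ≤ k + 1` (for instance `P' = P / Fil (k + 1)`).
-/

set_option autoImplicit false

universe u

namespace Groth.Agent.ResProp.EF.K224.Kos

open Module ExteriorAlgebra TensorProduct Groth.Agent.ResProp.EF.K734

section Trunc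

variable {P P' : Type*} [CommRing P] [CommRing P'] [Algebra P P'] {e : ℕ} {Fil : ℕ → Ideal P} {Fil' : ℕ → Ideal P'}
  {w : Fin e → ℕ} {k : ℕ}

theorem bcK_surjective (hs : Function.Surjective (algebraMap P P')) : Function.Surjective (bcK P P' e) := by
  intro y
  choose z hz using fun I => hs ((eb P' e).repr y I)
  refine ⟨∑ I, z I • eb P e I, ?_⟩
  apply (eb P' e).repr.injective
  ext I
  rw [bcK_repr, (eb P e).repr_sum_self, hz]

theorem bcK_mem_iff {m : ℕ} (hF : ∀ n ≤ m, (Fil' n).comap (algebraMap P P') = Fil n) {x : KA P e} :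
    bcK P P' e x ∈ FilK Fil' w m ↔ x ∈ FilK Fil w m := by
  refine forall_congr' fun I => ?_
  rw [bcK_repr, ← hF (m - wt w I) (Nat.sub_le _ _), Ideal.mem_comap]

theorem bcKK_bijective (hF : ∀ m, (Fil m).map (algebraMap P P') ≤ Fil' m) (hs : Function.Surjective (algebraMap P P'))
    (hF' : ∀ n ≤ k + 1, (Fil' n).comap (algebraMap P P') = Fil n) :
    Function.Bijective (bcKK (w := w) (k := k) hF) := by
  constructor
  · rw [injective_iff_map_eq_zero]
    intro x hx
    obtain ⟨y, rfl⟩ := Submodule.mkQ_surjective _ x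
    rw [bcKK_mk] at hx
    exact (Submodule.Quotient.mk_eq_zero _).2 ((bcK_mem_iff hF').1 ((Submodule.Quotient.mk_eq_zero _).1 hx))
  · intro y
    obtain ⟨z, rfl⟩ := Submodule.mkQ_surjective _ y
    obtain ⟨x, rfl⟩ := bcK_surjective hs z
    exact ⟨KK.mk Fil w k x, rfl⟩

theorem bcKK_mem_iff (h : MFil Fil) (h' : MFil Fil') (hF : ∀ m, (Fil m).map (algebraMap P P') ≤ Fil' m)
    (hF' : ∀ n ≤ k + 1, (Fil' n).comap (algebraMap P P') = Fil n) {m : ℕ} (hm : m ≤ k + 1) {x : KK Fil w k} :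
    bcKK (w := w) (k := k) hF x ∈ FilKK Fil' w k m ↔ x ∈ FilKK Fil w k m := by
  obtain ⟨y, rfl⟩ := Submodule.mkQ_surjective _ x
  rw [bcKK_mk, mk_mem_FilKK_iff h' hm, mk_mem_FilKK_iff h hm, bcK_mem_iff fun n hn => hF' n (hn.trans hm)]

/-- `KK(P) = KK(P')` -/
noncomputable def bcKKequiv (hF : ∀ m, (Fil m).map (algebraMap P P') ≤ Fil' m)
    (hs : Function.Surjective (algebraMap P P')) (hF' : ∀ n ≤ k + 1, (Fil' n).comap (algebraMap P P') = Fil n) :
    KK Fil w k ≃ₗ[P] KK Fil' w k :=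
  LinearEquiv.ofBijective (bcKK (w := w) (k := k) hF) (bcKK_bijective hF hs hF')

end Trunc

section FD

variable (R : Type u) {P : Type u} [CommRing R] [CommRing P] [Algebra R P] {e : ℕ} {Fil : ℕ → Ideal P} (h : MFil Fil)
  (w : Fin e → ℕ) (φ : Module.Dual P (Fin e → P)) (hφ : ∀ i, φ (Pi.single i 1) ∈ Fil (w i)) (k : ℕ)

/-- the operators of `KK`: the differential and the projections to the degrees -/
noncomputable def opFam : Option ℕ → KK Fil w k →ₗ[P] KK Fil w k
  | none => dKK h φ hφ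
  | some r => prKK Fil w k r

/-- `KK` as an `FD` -/
noncomputable def KKfd : FD R (Option ℕ) where
  P := P
  K := KK Fil w k
  k := k
  Fil := Fil
  Fil_zero := h.zero
  Fil_succ n := h.anti (Nat.le_succ n)
  Fil_mul := h.mul
  FilK := FilKK Fil w k
  FilK_zero := FilKK_zero h
  FilK_succ n := FilKK_anti h (Nat.le_succ n)
  FilK_smul _ _ _ _ hx hv := smul_mem_FilKK h hx hv
  FilK_top := FilKK_top h le_rfl
  op := opFam h w φ hφ k
  op_mem i m v hv := by
    cases i with
    | none => exact opKK_mem _ (fun _ _ hx => contractLeft_mem h φ hφ hx) hv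
    | some r => exact opKK_mem _ (fun _ _ hx => prK_mem r hx) hv

end FD

end Groth.Agent.ResProp.EF.K224.Kos
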