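import Groth.Agent.ResProp.EF.K224.KosBC

/-!
# The truncated exterior algebra `KK = KA / FilK (k + 1)`: filtration, operators, base change

-/

set_option autoImplicit false

namespace Groth.Agent.ResProp.EF.K224.Kos

open Module ExteriorAlgebra TensorProduct

section Ops

variable {P : Type*} [CommRing P] {e : ℕ}

theorem eb_induction {q : KA P e → Prop} (h0 : q 0) (hadd : ∀ x y, q x → q y → q (x + y))
    (hsmul : ∀ (c : P) x, q x → q (c • x)) (h : ∀ I, q (eb P e I)) (x : KA P e) : q x := by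
  rw [← (eb P e).sum_repr x]
  exact Finset.sum_induction _ q hadd h0 fun I _ => hsmul _ _ (h I)

/-- projection to degree `r` -/
noncomputable def prK (r : ℕ) : KA P e →ₗ[P] KA P e :=
  (eb P e).constr P fun I => if I.card = r then eb P e I else 0

theorem prK_eb (r : ℕ) (I : Finset (Fin e)) : prK r (eb P e I) = if I.card = r then eb P e I else 0 :=
  (eb P e).constr_basis _ _ _

theorem prK_eb_self (I : Finset (Fin e)) : prK I.card (eb P e I) = eb P e I := by
  rw [prK_eb, if_pos rfl]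

theorem repr_prK (r : ℕ) (x : KA P e) (I : Finset (Fin e)) :
    (eb P e).repr (prK r x) I = if I.card = r then (eb P e).repr x I else 0 := by
  classical
  conv_lhs => rw [← (eb P e).sum_repr x]
  rw [map_sum, map_sum, Finsupp.finsetSum_apply, Finset.sum_eq_single I]
  · rw [map_smul, prK_eb]
    split_ifs with h
    · simp
    · simp
  · intro J _ hJ
    rw [map_smul, prK_eb]
    split_ifs with h
    · simp [hJ]
    · simp
  · intro h
    exact absurd (Finset.mem_univ I) h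

theorem prK_mem {Fil : ℕ → Ideal P} {w : Fin e → ℕ} {m : ℕ} (r : ℕ) {x : KA P e} (hx : x ∈ FilK Fil w m) :
    prK r x ∈ FilK Fil w m := by
  intro I
  rw [repr_prK]
  split_ifs
  · exact hx I
  · exact zero_mem _

theorem prK_prK_self (r : ℕ) (x : KA P e) : prK r (prK r x) = prK r x := by
  apply (eb P e).repr.injective
  ext I
  rw [repr_prK, repr_prK]
  split_ifs <;> rfl

theorem prK_prK_of_ne {r s : ℕ} (h : r ≠ s) (x : KA P e) : prK r (prK s x) = 0 := by
  apply (eb P e).repr.injective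
  ext I
  rw [repr_prK, repr_prK]
  split_ifs with h1 h2
  · exact absurd (h1.symm.trans h2) h
  · simp
  · simp

theorem sum_prK (x : KA P e) : ∑ r ∈ Finset.range (e + 1), prK r x = x := by
  apply (eb P e).repr.injective
  ext I
  rw [map_sum, Finsupp.finsetSum_apply]
  simp_rw [repr_prK]
  rw [Finset.sum_ite_eq, if_pos]
  rw [Finset.mem_range, Nat.lt_succ_iff]
  exact (Finset.card_le_univ I).trans_eq (Fintype.card_fin e)

theorem prK_of_lt {r : ℕ} (h : e < r) (x : KA P e) : prK r x = 0 := by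
  apply (eb P e).repr.injective
  ext I
  rw [repr_prK, if_neg]
  · simp
  · intro h1
    have := (Finset.card_le_univ I).trans_eq (Fintype.card_fin e)
    omega

theorem prK_ι_mul_eb (r : ℕ) (i : Fin e) (I : Finset (Fin e)) :
    prK (r + 1) (ExteriorAlgebra.ι P (Pi.single i 1) * eb P e I) = ExteriorAlgebra.ι P (Pi.single i 1) * prK r (eb P e I) := by
  by_cases hi : i ∈ I
  · rw [ι_mul_eb_of_mem P e hi, map_zero, prK_eb]
    split_ifs
    · rw [ι_mul_eb_of_mem P e hi]
    · rw [mul_zero]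
  · obtain ⟨s, hs⟩ := ι_mul_eb P e hi
    rw [hs, Units.smul_def, map_zsmul, prK_eb, prK_eb, Finset.card_insert_of_notMem hi]
    by_cases h : I.card = r
    · rw [if_pos (by omega), if_pos h, hs, Units.smul_def]
    · rw [if_neg (by omega), if_neg h, mul_zero, smul_zero]

theorem prK_ι_mul (r : ℕ) (i : Fin e) (x : KA P e) :
    prK (r + 1) (ExteriorAlgebra.ι P (Pi.single i 1) * x) = ExteriorAlgebra.ι P (Pi.single i 1) * prK r x := by
  have h : prK (r + 1) ∘ₗ LinearMap.mulLeft P (ExteriorAlgebra.ι P (Pi.single i 1) : KA P e) =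
      LinearMap.mulLeft P (ExteriorAlgebra.ι P (Pi.single i 1)) ∘ₗ prK r :=
    (eb P e).ext fun I => prK_ι_mul_eb r i I
  exact LinearMap.congr_fun h x

theorem prK_zero_ι_mul_eb (i : Fin e) (I : Finset (Fin e)) :
    prK 0 (ExteriorAlgebra.ι P (Pi.single i 1) * eb P e I) = 0 := by
  by_cases hi : i ∈ I
  · rw [ι_mul_eb_of_mem P e hi, map_zero]
  · obtain ⟨s, hs⟩ := ι_mul_eb P e hi
    rw [hs, Units.smul_def, map_zsmul, prK_eb, Finset.card_insert_of_notMem hi, if_neg (by omega), smul_zero]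

theorem prK_zero_ι_mul (i : Fin e) (x : KA P e) : prK 0 (ExteriorAlgebra.ι P (Pi.single i 1) * x) = 0 := by
  rw [← (eb P e).sum_repr x, Finset.mul_sum, map_sum]
  refine Finset.sum_eq_zero fun I _ => ?_
  rw [mul_smul_comm, map_smul, prK_zero_ι_mul_eb, smul_zero]

/-- the contraction lowers the degree by one -/
theorem prK_contractLeft (φ : Module.Dual P (Fin e → P)) (r : ℕ) (x : KA P e) :
    prK r (CliffordAlgebra.contractLeft φ x) = CliffordAlgebra.contractLeft φ (prK (r + 1) x) := by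
  classical
  have key : ∀ I : Finset (Fin e), ∀ r, prK r (CliffordAlgebra.contractLeft φ (eb P e I)) =
      CliffordAlgebra.contractLeft φ (prK (r + 1) (eb P e I)) := by
    intro I
    induction I using Finset.induction_on with
    | empty =>
      intro r
      rw [prK_eb, if_neg (by simp), map_zero, eb_empty]
      erw [CliffordAlgebra.contractLeft_one]
      rw [map_zero]
    | insert i I hi ih =>
      intro r
      obtain ⟨s, hs⟩ := eb_insert_of_lt (P := P) hi
      rw [hs, Units.smul_def, map_zsmul, map_zsmul, map_zsmul, map_zsmul, prK_ι_mul]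
      congr 1
      erw [CliffordAlgebra.contractLeft_ι_mul]
      rw [map_sub, map_smul]
      cases r with
      | zero =>
        rw [prK_zero_ι_mul]
        erw [CliffordAlgebra.contractLeft_ι_mul]
        rw [prK_eb]
        split_ifs with h0
        · rw [Finset.card_eq_zero] at h0
          subst h0
          rw [eb_empty]
          erw [CliffordAlgebra.contractLeft_one]
          simp
        · simp
      | succ r =>
        rw [prK_ι_mul, ih]
        erw [CliffordAlgebra.contractLeft_ι_mul]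
  refine eb_induction (P := P) (e := e) (q := fun x : KA P e => prK r (CliffordAlgebra.contractLeft φ x) =
    CliffordAlgebra.contractLeft φ (prK (r + 1) x)) ?_ ?_ ?_ (fun I => key I r) x
  · simp
  · intro x y hx hy
    rw [map_add, map_add, map_add, map_add, hx, hy]
  · intro c x hx
    rw [map_smul, map_smul, map_smul, map_smul, hx]

end Ops

section KK

variable {P : Type*} [CommRing P] {e : ℕ} (Fil : ℕ → Ideal P) (w : Fin e → ℕ) (k : ℕ)

/-- `KK = KA / FilK (k + 1)` -/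
abbrev KK : Type _ := KA P e ⧸ FilK Fil w (k + 1)

/-- the quotient map -/
abbrev KK.mk : KA P e →ₗ[P] KK Fil w k := (FilK Fil w (k + 1)).mkQ

/-- the filtration of `KK` -/
def FilKK (m : ℕ) : Submodule P (KK Fil w k) := (FilK Fil w m).map (KK.mk Fil w k)

variable {Fil w k}

theorem mk_mem_FilKK {m : ℕ} {x : KA P e} (hx : x ∈ FilK Fil w m) : KK.mk Fil w k x ∈ FilKK Fil w k m :=
  Submodule.mem_map_of_mem hx

theorem FilKK_zero (h : MFil Fil) : FilKK Fil w k 0 = ⊤ := by
  rw [FilKK, FilK_zero h, Submodule.map_top, Submodule.range_mkQ]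

theorem FilKK_anti (h : MFil Fil) : Antitone (FilKK Fil w k) := fun _ _ hmn => Submodule.map_mono (FilK_anti h hmn)

theorem FilKK_top (h : MFil Fil) {m : ℕ} (hm : k + 1 ≤ m) : FilKK Fil w k m = ⊥ := by
  rw [FilKK, eq_bot_iff, Submodule.map_le_iff_le_comap]
  intro x hx
  rw [Submodule.mem_comap, Submodule.mem_bot]
  exact (Submodule.Quotient.mk_eq_zero _).2 (FilK_anti h hm hx)

theorem smul_mem_FilKK (h : MFil Fil) {a m : ℕ} {c : P} {x : KK Fil w k} (hc : c ∈ Fil a) (hx : x ∈ FilKK Fil w k m) :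
    c • x ∈ FilKK Fil w k (a + m) := by
  obtain ⟨y, hy, rfl⟩ := hx
  rw [← map_smul]
  exact mk_mem_FilKK (smul_mem_FilK h hc hy)

/-- membership in the filtration of `KK`, for `m ≤ k + 1` -/
theorem mk_mem_FilKK_iff (h : MFil Fil) {m : ℕ} (hm : m ≤ k + 1) {x : KA P e} :
    KK.mk Fil w k x ∈ FilKK Fil w k m ↔ x ∈ FilK Fil w m := by
  refine ⟨?_, mk_mem_FilKK⟩
  rintro ⟨y, hy, hyx⟩
  have h1 : x - y ∈ FilK Fil w (k + 1) := (Submodule.Quotient.eq _).1 hyx.symm
  have h2 := add_mem (FilK_anti h hm h1) hy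
  rwa [sub_add_cancel] at h2

/-- a filtered operator on `KA` induces one on `KK` -/
def opKK (T : KA P e →ₗ[P] KA P e) (hT : ∀ m, ∀ x ∈ FilK Fil w m, T x ∈ FilK Fil w m) : KK Fil w k →ₗ[P] KK Fil w k :=
  (FilK Fil w (k + 1)).mapQ (FilK Fil w (k + 1)) T (hT (k + 1))

theorem opKK_mk (T : KA P e →ₗ[P] KA P e) (hT : ∀ m, ∀ x ∈ FilK Fil w m, T x ∈ FilK Fil w m) (x : KA P e) :
    opKK (k := k) T hT (KK.mk Fil w k x) = KK.mk Fil w k (T x) := rfl

theorem opKK_mem (T : KA P e →ₗ[P] KA P e) (hT : ∀ m, ∀ x ∈ FilK Fil w m, T x ∈ FilK Fil w m) {m : ℕ} {x : KK Fil w k}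
    (hx : x ∈ FilKK Fil w k m) : opKK (k := k) T hT x ∈ FilKK Fil w k m := by
  obtain ⟨y, hy, rfl⟩ := hx
  exact mk_mem_FilKK (hT m y hy)

instance : Module.Finite P (KK Fil w k) := inferInstance

/-- the differential of `KK` -/
def dKK (h : MFil Fil) (φ : Module.Dual P (Fin e → P)) (hφ : ∀ i, φ (Pi.single i 1) ∈ Fil (w i)) :
    KK Fil w k →ₗ[P] KK Fil w k :=
  opKK (CliffordAlgebra.contractLeft φ) fun _ _ hx => contractLeft_mem h φ hφ hx

/-- the projections of `KK` to the degrees -/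
noncomputable def prKK (Fil : ℕ → Ideal P) (w : Fin e → ℕ) (k r : ℕ) : KK Fil w k →ₗ[P] KK Fil w k :=
  opKK (prK r) fun _ _ hx => prK_mem r hx

theorem dKK_dKK (h : MFil Fil) (φ : Module.Dual P (Fin e → P)) (hφ : ∀ i, φ (Pi.single i 1) ∈ Fil (w i))
    (x : KK Fil w k) : dKK h φ hφ (dKK h φ hφ x) = 0 := by
  obtain ⟨y, rfl⟩ := Submodule.mkQ_surjective _ x
  rw [dKK, opKK_mk, opKK_mk, CliffordAlgebra.contractLeft_contractLeft, map_zero]

theorem prKK_dKK (h : MFil Fil) (φ : Module.Dual P (Fin e → P)) (hφ : ∀ i, φ (Pi.single i 1) ∈ Fil (w i)) (r : ℕ)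
    (x : KK Fil w k) : prKK Fil w k r (dKK h φ hφ x) = dKK h φ hφ (prKK Fil w k (r + 1) x) := by
  obtain ⟨y, rfl⟩ := Submodule.mkQ_surjective _ x
  rw [dKK, prKK, prKK, opKK_mk, opKK_mk, opKK_mk, opKK_mk, prK_contractLeft]

theorem prKK_prKK_self (r : ℕ) (x : KK Fil w k) : prKK Fil w k r (prKK Fil w k r x) = prKK Fil w k r x := by
  obtain ⟨y, rfl⟩ := Submodule.mkQ_surjective _ x
  rw [prKK, opKK_mk, opKK_mk, prK_prK_self]

theorem prKK_prKK_of_ne {r s : ℕ} (h : r ≠ s) (x : KK Fil w k) : prKK Fil w k r (prKK Fil w k s x) = 0 := by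
  obtain ⟨y, rfl⟩ := Submodule.mkQ_surjective _ x
  rw [prKK, prKK, opKK_mk, opKK_mk, prK_prK_of_ne h, map_zero]

theorem sum_prKK (x : KK Fil w k) : ∑ r ∈ Finset.range (e + 1), prKK Fil w k r x = x := by
  obtain ⟨y, rfl⟩ := Submodule.mkQ_surjective _ x
  simp_rw [prKK, opKK_mk]
  rw [← map_sum, sum_prK]

theorem prKK_of_lt {r : ℕ} (h : e < r) (x : KK Fil w k) : prKK Fil w k r x = 0 := by
  obtain ⟨y, rfl⟩ := Submodule.mkQ_surjective _ x
  rw [prKK, opKK_mk, prK_of_lt h, map_zero]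

variable (Fil w k) in
/-- `KK = ∏_I P / Fil (k + 1 - wt I)` -/
noncomputable def KKequiv : KK Fil w k ≃ₗ[P] (∀ I : Finset (Fin e), P ⧸ Fil (k + 1 - wt w I)) :=
  (Submodule.quotEquivOfEq _ _ (by
    ext x
    rw [LinearMap.mem_ker]
    constructor
    · intro hx
      funext I
      exact (Submodule.Quotient.mk_eq_zero _).2 (hx I)
    · intro hx I
      exact (Submodule.Quotient.mk_eq_zero _).1 (congrFun hx I))).trans
  (LinearMap.quotKerEquivOfSurjective (LinearMap.pi fun I : Finset (Fin e) =>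
      (Fil (k + 1 - wt w I)).mkQ ∘ₗ (eb P e).coord I) (by
    intro y
    choose z hz using fun I => Submodule.mkQ_surjective _ (y I)
    refine ⟨∑ I, z I • eb P e I, ?_⟩
    funext I
    rw [LinearMap.pi_apply, LinearMap.comp_apply, Basis.coord_apply, (eb P e).repr_sum_self, hz]))

theorem KKequiv_mk (x : KA P e) (I : Finset (Fin e)) :
    KKequiv Fil w k (KK.mk Fil w k x) I = (Fil (k + 1 - wt w I)).mkQ ((eb P e).repr x I) := rfl

end KK

section KKBC

variable {P P' : Type*} [CommRing P] [CommRing P'] [Algebra P P'] {e : ℕ} {Fil : ℕ → Ideal P} {Fil' : ℕ → Ideal P'}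
  {w : Fin e → ℕ} {k : ℕ}

/-- `KK → KK'` -/
noncomputable def bcKK (hF : ∀ m, (Fil m).map (algebraMap P P') ≤ Fil' m) : KK Fil w k →ₗ[P] KK Fil' w k :=
  (FilK Fil w (k + 1)).liftQ (((KK.mk Fil' w k).restrictScalars P) ∘ₗ (bcK P P' e).toLinearMap)
    fun _ hx => (Submodule.Quotient.mk_eq_zero _).2 (bcK_mem hF hx)

theorem bcKK_mk (hF : ∀ m, (Fil m).map (algebraMap P P') ≤ Fil' m) (x : KA P e) :
    bcKK (w := w) (k := k) hF (KK.mk Fil w k x) = KK.mk Fil' w k (bcK P P' e x) := rfl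

theorem bcKK_mem (hF : ∀ m, (Fil m).map (algebraMap P P') ≤ Fil' m) {m : ℕ} {x : KK Fil w k} (hx : x ∈ FilKK Fil w k m) :
    bcKK (w := w) (k := k) hF x ∈ FilKK Fil' w k m := by
  obtain ⟨y, hy, rfl⟩ := hx
  rw [bcKK_mk]
  exact mk_mem_FilKK (bcK_mem hF hy)

/-- `KK' = P' ⊗[P] KK` -/
theorem isBaseChange_bcKK (hF : ∀ m, Fil' m = (Fil m).map (algebraMap P P')) :
    IsBaseChange P' (bcKK (w := w) (k := k) (fun m => (hF m).ge)) :=
  isBaseChange_mapQ (f := (bcK P P' e).toLinearMap) isBaseChange_bcK (FilK Fil w (k + 1)) (FilK Fil' w (k + 1))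
    (FilK_eq_span_bcK hF (k + 1)) (bcKK (w := w) (k := k) (fun m => (hF m).ge)) (fun x => bcKK_mk _ x)

/-- `KK' = R' ⊗[R] KK` for `P' = R' ⊗[R] P` -/
theorem isBaseChange_bcKK_restrict (R R' : Type*) [CommRing R] [CommRing R'] [Algebra R R'] [Algebra R P]
    [Algebra R' P'] [Algebra R P'] [IsScalarTower R R' P'] [IsScalarTower R P P'] [Algebra.IsPushout R R' P P']
    (hF : ∀ m, Fil' m = (Fil m).map (algebraMap P P')) :
    IsBaseChange R' ((bcKK (w := w) (k := k) (fun m => (hF m).ge)).restrictScalars R) :=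
  isBaseChange_restrict R R' (isBaseChange_bcKK hF)

/-- the filtration of `KK'` is generated by the image -/
theorem FilKK_eq_span (hF : ∀ m, Fil' m = (Fil m).map (algebraMap P P')) (m : ℕ) :
    FilKK Fil' w k m = Submodule.span P' (bcKK (w := w) (k := k) (fun m => (hF m).ge) '' FilKK Fil w k m) := by
  rw [FilKK, FilK_eq_span_bcK hF m, Submodule.map_span, FilKK, Submodule.map_coe, Set.image_image, Set.image_image]
  rfl

theorem bcKK_opKK (hF : ∀ m, (Fil m).map (algebraMap P P') ≤ Fil' m) (T : KA P e →ₗ[P] KA P e)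
    (hT : ∀ m, ∀ x ∈ FilK Fil w m, T x ∈ FilK Fil w m) (T' : KA P' e →ₗ[P'] KA P' e)
    (hT' : ∀ m, ∀ x ∈ FilK Fil' w m, T' x ∈ FilK Fil' w m) (h : ∀ x, bcK P P' e (T x) = T' (bcK P P' e x))
    (x : KK Fil w k) : bcKK (w := w) (k := k) hF (opKK T hT x) = opKK T' hT' (bcKK (w := w) (k := k) hF x) := by
  obtain ⟨y, rfl⟩ := Submodule.mkQ_surjective _ x
  rw [opKK_mk, bcKK_mk, bcKK_mk, opKK_mk, h]

theorem bcK_prK (r : ℕ) (x : KA P e) : bcK P P' e (prK r x) = prK r (bcK P P' e x) := by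
  apply (eb P' e).repr.injective
  ext I
  rw [bcK_repr, repr_prK, repr_prK, bcK_repr]
  split_ifs
  · rfl
  · exact map_zero _

theorem bcKK_prKK (hF : ∀ m, (Fil m).map (algebraMap P P') ≤ Fil' m) (r : ℕ) (x : KK Fil w k) :
    bcKK (w := w) (k := k) hF (prKK Fil w k r x) = prKK Fil' w k r (bcKK (w := w) (k := k) hF x) :=
  bcKK_opKK hF _ _ _ _ (bcK_prK r) x

theorem bcKK_dKK (hF : ∀ m, (Fil m).map (algebraMap P P') ≤ Fil' m) (h : MFil Fil) (h' : MFil Fil')
    (φ : Module.Dual P (Fin e → P)) (hφ : ∀ i, φ (Pi.single i 1) ∈ Fil (w i))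
    (φ' : Module.Dual P' (Fin e → P')) (hφ' : ∀ i, φ' (Pi.single i 1) ∈ Fil' (w i))
    (hc : ∀ v, φ' (bcv P P' e v) = algebraMap P P' (φ v)) (x : KK Fil w k) :
    bcKK (w := w) (k := k) hF (dKK h φ hφ x) = dKK h' φ' hφ' (bcKK (w := w) (k := k) hF x) :=
  bcKK_opKK hF _ _ _ _ (bcK_contractLeft φ φ' hc) x

end KKBC

end Groth.Agent.ResProp.EF.K224.Kos
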