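import Groth.Agent.ResProp.EF.K224.KozCmp
import Groth.Agent.ResProp.EF.K224.FDofBC

/-!
# Base change of 734's truncated Koszul complex `kozFD` for `M = P^e` with weights

`kozIsBC : IsBCof (kozFD F G w hw k) f (kozFD F₁ G₁ w₁ hw₁ k)`, `kozBC` the `FD.SIso`.
-/

set_option autoImplicit false
set_option linter.style.haveILetI false

universe u

namespace Groth.Agent.ResProp.EF.K224

open TensorProduct Groth.Agent.ResProp.EF.K734 Groth.Agent.ResProp.EF.K280 Kos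

section

variable {P P₁ : Type u} [CommRing P] [CommRing P₁] (θ : P →+* P₁) {e : ℕ}
  {F : K734.MFil P} {F₁ : K734.MFil P₁} {wt' : Fin e → ℕ} {G : MFilM F (Fin e → P)} {G₁ : MFilM F₁ (Fin e → P₁)}

theorem cv_mem (hF : ∀ m x, x ∈ F.F m → θ x ∈ F₁.F m) (hG : ∀ m, G.G m = FilE F.F wt' m)
    (hG₁ : ∀ m, G₁.G m = FilE F₁.F wt' m) (m : ℕ) (v : Fin e → P) (hv : v ∈ G.G m) : cv e θ v ∈ G₁.G m := by
  rw [hG] at hv
  rw [hG₁]
  intro i
  exact hF _ _ (hv i)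

/-- the map of the quotients, semilinear over `θ` -/
noncomputable def kozT (k : ℕ) (hF : ∀ m x, x ∈ F.F m → θ x ∈ F₁.F m) (hε : ∀ m v, v ∈ G.G m → cv e θ v ∈ G₁.G m) :
    (ExteriorAlgebra P (Fin e → P) ⧸ filA F G (k + 1)) →ₛₗ[θ] (ExteriorAlgebra P₁ (Fin e → P₁) ⧸ filA F₁ G₁ (k + 1)) :=
  (filA F G (k + 1)).liftQ
    { toFun := fun z => (filA F₁ G₁ (k + 1)).mkQ (kmap θ (cv e θ) z)
      map_add' := fun a b => by rw [map_add, map_add]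
      map_smul' := fun c z => by rw [kmap_smul, map_smul] }
    fun _ hz => (Submodule.Quotient.mk_eq_zero _).2 (kmap_mem θ (cv e θ) hF hε hz)

theorem kozT_mk (k : ℕ) (hF : ∀ m x, x ∈ F.F m → θ x ∈ F₁.F m) (hε : ∀ m v, v ∈ G.G m → cv e θ v ∈ G₁.G m)
    (z : ExteriorAlgebra P (Fin e → P)) :
    kozT θ k hF hε ((filA F G (k + 1)).mkQ z) = (filA F₁ G₁ (k + 1)).mkQ (kmap θ (cv e θ) z) := rfl

theorem filA_eq_span (hF : ∀ m, F₁.F m = (F.F m).map θ) (hG : ∀ m, G.G m = FilE F.F wt' m)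
    (hG₁ : ∀ m, G₁.G m = FilE F₁.F wt' m) (m : ℕ) :
    filA F₁ G₁ m = Submodule.span P₁ (kmap θ (cv e θ) '' (filA F G m)) := by
  letI := θ.toAlgebra
  rw [filA_eq hG₁, filA_eq hG, FilK_eq_span_bcK (P := P) hF]
  congr 1

theorem isBaseChange_kozT (k : ℕ) (hF : ∀ m, F₁.F m = (F.F m).map θ) (hG : ∀ m, G.G m = FilE F.F wt' m)
    (hG₁ : ∀ m, G₁.G m = FilE F₁.F wt' m) (hF' : ∀ m x, x ∈ F.F m → θ x ∈ F₁.F m)
    (hε : ∀ m v, v ∈ G.G m → cv e θ v ∈ G₁.G m) :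
    letI := θ.toAlgebra
    IsBaseChange P₁ ({ toFun := kozT (F := F) (F₁ := F₁) (G := G) (G₁ := G₁) θ k hF' hε
                       map_add' := map_add _
                       map_smul' := fun c z => by
                        rw [LinearMap.map_smulₛₗ, RingHom.id_apply]
                        exact algebraMap_smul P₁ c (kozT (F := F) (F₁ := F₁) (G := G) (G₁ := G₁) θ k hF' hε z) } :
      (ExteriorAlgebra P (Fin e → P) ⧸ filA F G (k + 1)) →ₗ[P]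
        (ExteriorAlgebra P₁ (Fin e → P₁) ⧸ filA F₁ G₁ (k + 1))) := by
  letI := θ.toAlgebra
  refine isBaseChange_mapQ (f := (bcK P P₁ e).toLinearMap) isBaseChange_bcK (filA F G (k + 1)) (filA F₁ G₁ (k + 1))
    ?_ _ (fun x => ?_)
  · rw [filA_eq_span θ hF hG hG₁]
    congr 1
  · exact (kozT_mk θ k hF' hε x).trans (congrArg _ (kmap_eq θ x).symm)

end

section

variable {R R₁ P P₁ : Type u} [CommRing R] [CommRing R₁] [CommRing P] [CommRing P₁] [Algebra R P] [Algebra R₁ P₁]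
  {f : R →+* R₁} (θ : P →+* P₁) (hθ : ∀ r, θ (algebraMap R P r) = algebraMap R₁ P₁ (f r)) {e : ℕ}
  {F : K734.MFil P} {F₁ : K734.MFil P₁} {wt' : Fin e → ℕ} {G : MFilM F (Fin e → P)} {G₁ : MFilM F₁ (Fin e → P₁)}

/-- the map of the quotients, semilinear over `f` -/
noncomputable def kozK (k : ℕ) (hF : ∀ m x, x ∈ F.F m → θ x ∈ F₁.F m) (hε : ∀ m v, v ∈ G.G m → cv e θ v ∈ G₁.G m) :
    (ExteriorAlgebra P (Fin e → P) ⧸ filA F G (k + 1)) →ₛₗ[f] (ExteriorAlgebra P₁ (Fin e → P₁) ⧸ filA F₁ G₁ (k + 1)) where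
  toFun := kozT θ k hF hε
  map_add' := map_add _
  map_smul' r z := by
    rw [← algebraMap_smul P r z, LinearMap.map_smulₛₗ, hθ, algebraMap_smul]

theorem BCm_kozK (hbc : BCr f θ hθ) (k : ℕ) (hF : ∀ m, F₁.F m = (F.F m).map θ) (hG : ∀ m, G.G m = FilE F.F wt' m)
    (hG₁ : ∀ m, G₁.G m = FilE F₁.F wt' m) (hF' : ∀ m x, x ∈ F.F m → θ x ∈ F₁.F m)
    (hε : ∀ m v, v ∈ G.G m → cv e θ v ∈ G₁.G m) :
    BCm f (kozK (F := F) (F₁ := F₁) (G := G) (G₁ := G₁) θ hθ k hF' hε) := by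
  letI := f.toAlgebra
  letI := θ.toAlgebra
  letI : Algebra R P₁ := ((algebraMap R₁ P₁).comp f).toAlgebra
  haveI : IsScalarTower R R₁ P₁ := IsScalarTower.of_algebraMap_eq' rfl
  haveI : IsScalarTower R P P₁ := IsScalarTower.of_algebraMap_eq fun r => (hθ r).symm
  haveI : Algebra.IsPushout R R₁ P P₁ := ⟨by
    obtain ⟨E, hE⟩ := hbc
    exact IsBaseChange.of_equiv E hE⟩
  have h1 := isBaseChange_restrict R R₁ (isBaseChange_kozT (wt' := wt') θ k hF hG hG₁ hF' hε)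
  exact ⟨h1.equiv, fun m => by
    rw [h1.equiv_tmul, one_smul]
    rfl⟩

/-- **`kozFD` commutes with base change.** -/
noncomputable def kozIsBC (hbc : BCr f θ hθ) (hF : ∀ m, F₁.F m = (F.F m).map θ) (hG : ∀ m, G.G m = FilE F.F wt' m)
    (hG₁ : ∀ m, G₁.G m = FilE F₁.F wt' m) (w : Module.Dual P (Fin e → P)) (w₁ : Module.Dual P₁ (Fin e → P₁))
    (hw : ∀ b v, v ∈ G.G b → w v ∈ F.F b) (hw₁ : ∀ b v, v ∈ G₁.G b → w₁ v ∈ F₁.F b)
    (hc : ∀ i, w₁ (Pi.single i 1) = θ (w (Pi.single i 1))) (k : ℕ) :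
    IsBCof (kozFD (R := R) F G w hw k) f (kozFD (R := R₁) F₁ G₁ w₁ hw₁ k) :=
  have hF' : ∀ m x, x ∈ F.F m → θ x ∈ F₁.F m := fun m x hx => by
    rw [hF]; exact Ideal.mem_map_of_mem _ hx
  have hε := cv_mem θ hF' hG hG₁
  have hc' : ∀ v, w₁ (cv e θ v) = θ (w v) := fun v => by
    have h1 : cv e θ v = ∑ i, θ (v i) • (Pi.single i 1 : Fin e → P₁) := pi_eq_sum_univ' (cv e θ v)
    have h2 : v = ∑ i, v i • (Pi.single i 1 : Fin e → P) := pi_eq_sum_univ' v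
    rw [h1, map_sum]
    conv_rhs => rw [h2, map_sum, map_sum]
    refine Finset.sum_congr rfl fun i _ => ?_
    rw [map_smul, map_smul, hc, smul_eq_mul, smul_eq_mul, map_mul]
  { θ := θ
    hθ := hθ
    κ := kozK (F := F) (F₁ := F₁) (G := G) (G₁ := G₁) θ hθ k hF' hε
    smul := fun p v => LinearMap.map_smulₛₗ (kozT (F := F) (F₁ := F₁) (G := G) (G₁ := G₁) θ k hF' hε) p v
    bcP := hbc
    bcK := BCm_kozK θ hθ hbc k hF hG hG₁ hF' hε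
    fil := hF
    filK := fun m => by
      change (filA F₁ G₁ m).map (filA F₁ G₁ (k + 1)).mkQ = _
      rw [filA_eq_span θ hF hG hG₁ m, Submodule.map_span]
      congr 1
      ext z
      constructor
      · rintro ⟨_, ⟨y, hy, rfl⟩, rfl⟩
        exact ⟨(filA F G (k + 1)).mkQ y, ⟨y, hy, rfl⟩, rfl⟩
      · rintro ⟨_, ⟨y, hy, rfl⟩, rfl⟩
        exact ⟨_, ⟨y, hy, rfl⟩, rfl⟩
    op := fun i v => by
      obtain ⟨z, rfl⟩ := Submodule.mkQ_surjective _ v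
      cases i with
      | none =>
        change (filA F₁ G₁ (k + 1)).mkQ (kmap θ (cv e θ) (kd w z)) =
          (filA F₁ G₁ (k + 1)).mkQ (kd w₁ (kmap θ (cv e θ) z))
        rw [kmap_kd _ _ w w₁ hc']
      | some i =>
        change (filA F₁ G₁ (k + 1)).mkQ (kmap θ (cv e θ) (kproj i z)) =
          (filA F₁ G₁ (k + 1)).mkQ (kproj i (kmap θ (cv e θ) z))
        rw [kmap_kproj] }

/-- the isomorphism of `FD`s over `R₁` -/
noncomputable def kozBC (hbc : BCr f θ hθ) (hF : ∀ m, F₁.F m = (F.F m).map θ) (hG : ∀ m, G.G m = FilE F.F wt' m)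
    (hG₁ : ∀ m, G₁.G m = FilE F₁.F wt' m) (w : Module.Dual P (Fin e → P)) (w₁ : Module.Dual P₁ (Fin e → P₁))
    (hw : ∀ b v, v ∈ G.G b → w v ∈ F.F b) (hw₁ : ∀ b v, v ∈ G₁.G b → w₁ v ∈ F₁.F b)
    (hc : ∀ i, w₁ (Pi.single i 1) = θ (w (Pi.single i 1))) (k : ℕ) :
    FD.SIso (bc (kozFD (R := R) F G w hw k) f) (kozFD (R := R₁) F₁ G₁ w₁ hw₁ k) :=
  (kozIsBC θ hθ hbc hF hG hG₁ w w₁ hw hw₁ hc k).siso

theorem kozBC_φ (hbc : BCr f θ hθ) (hF : ∀ m, F₁.F m = (F.F m).map θ) (hG : ∀ m, G.G m = FilE F.F wt' m)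
    (hG₁ : ∀ m, G₁.G m = FilE F₁.F wt' m) (w : Module.Dual P (Fin e → P)) (w₁ : Module.Dual P₁ (Fin e → P₁))
    (hw : ∀ b v, v ∈ G.G b → w v ∈ F.F b) (hw₁ : ∀ b v, v ∈ G₁.G b → w₁ v ∈ F₁.F b)
    (hc : ∀ i, w₁ (Pi.single i 1) = θ (w (Pi.single i 1))) (k : ℕ) (p : P) :
    (kozBC θ hθ hbc hF hG hG₁ w w₁ hw hw₁ hc k).φ (canP (kozFD (R := R) F G w hw k) f p) = θ p :=
  (kozIsBC θ hθ hbc hF hG hG₁ w w₁ hw hw₁ hc k).φ_canP p

theorem kozBC_ψ (hbc : BCr f θ hθ) (hF : ∀ m, F₁.F m = (F.F m).map θ) (hG : ∀ m, G.G m = FilE F.F wt' m)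
    (hG₁ : ∀ m, G₁.G m = FilE F₁.F wt' m) (w : Module.Dual P (Fin e → P)) (w₁ : Module.Dual P₁ (Fin e → P₁))
    (hw : ∀ b v, v ∈ G.G b → w v ∈ F.F b) (hw₁ : ∀ b v, v ∈ G₁.G b → w₁ v ∈ F₁.F b)
    (hc : ∀ i, w₁ (Pi.single i 1) = θ (w (Pi.single i 1))) (k : ℕ) (z : ExteriorAlgebra P (Fin e → P)) :
    (kozBC θ hθ hbc hF hG hG₁ w w₁ hw hw₁ hc k).ψ (canK (kozFD (R := R) F G w hw k) f ((filA F G (k + 1)).mkQ z)) =
      (filA F₁ G₁ (k + 1)).mkQ (kmap θ (cv e θ) z) :=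
  (kozIsBC θ hθ hbc hF hG hG₁ w w₁ hw hw₁ hc k).ψ_canK _

end

end Groth.Agent.ResProp.EF.K224
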