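import Groth.Agent.ResProp.EF.K224.KosFD
import Groth.Agent.ResProp.EF.K734.Koz

/-!
# Comparison of 734's `filA`, `kproj`, `kmap` with the basis description
-/

set_option autoImplicit false

universe u v

namespace Groth.Agent.ResProp.EF.K224.Kos

open Module ExteriorAlgebra Groth.Agent.ResProp.EF.K734

section

variable {P : Type u} [CommRing P] {e : ℕ}

theorem toMFil (F : K734.MFil P) : Kos.MFil F.F := ⟨F.zero, antitone_nat_of_succ_le F.succ, fun a b x y => F.mul a b x y⟩

variable (F : K734.MFil P) (w : Fin e → ℕ)

/-- the weight filtration of `P^e` -/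
def GE : K734.MFilM F (Fin e → P) where
  G := FilE F.F w
  zero := by
    rw [eq_top_iff]
    intro v _ i
    rw [Nat.zero_sub, F.zero]
    trivial
  succ n v hv i := (toMFil F).anti (by omega) (hv i)
  smul m n x v hx hv i := (toMFil F).anti (by omega) (F.mul m (n - w i) x (v i) hx (hv i))

variable {F w} {G : K734.MFilM F (Fin e → P)} (hG : ∀ m, G.G m = FilE F.F w m)

include hG in
/-- 734's filtration of the exterior algebra in coordinates -/
theorem filA_eq (m : ℕ) : filA F G m = FilK F.F w m := by
  have h := toMFil F
  apply le_antisymm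
  · intro z hz
    rw [mem_filA] at hz
    induction hz with
    | zero m => exact zero_mem _
    | add m y z _ _ hy hz => exact add_mem hy hz
    | alg m x hx =>
      rw [Algebra.algebraMap_eq_smul_one]
      exact smul_mem_FilK (m := 0) h hx (one_mem_FilK h)
    | ι_mul b m v z hv _ hz =>
      rw [hG] at hv
      exact mul_mem_FilK h (ι_mem b hv) hz
    | down m z _ hz => exact FilK_anti h (Nat.le_succ m) hz
  · refine FilK_le_of h (fun m => filA F G m) ?_ ?_ ?_ ?_ m
    · exact isF_zero 1
    · exact antitone_nat_of_succ_le (filA_succ F G)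
    · intro a m c hc x hx
      exact IsF.smul hc hx
    · intro i m x hx
      refine IsF.ι_mul _ _ _ _ ?_ hx
      rw [hG]
      exact single_mem h i

theorem kproj_eb (r : ℕ) (I : Finset (Fin e)) : kproj r (eb P e I) = if I.card = r then eb P e I else 0 := by
  classical
  induction I using Finset.induction_on generalizing r with
  | empty =>
    rw [eb_empty, ← map_one (algebraMap P (ExteriorAlgebra P (Fin e → P))), kproj_algebraMap]
    simp [eq_comm]
  | insert i I hi ih =>
    obtain ⟨s, hs⟩ := eb_insert_of_lt (P := P) hi
    rw [hs, Units.smul_def, map_zsmul, Finset.card_insert_of_notMem hi]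
    cases r with
    | zero => rw [kproj_ι_mul_zero, if_neg (by omega), smul_zero]
    | succ r =>
      rw [kproj_ι_mul_succ, ih]
      by_cases h : I.card = r
      · rw [if_pos h, if_pos (by omega)]
      · rw [if_neg h, if_neg (by omega), mul_zero, smul_zero]

/-- 734's projection in coordinates -/
theorem kproj_eq (r : ℕ) (z : KA P e) : kproj r z = prK r z := by
  have h : (kproj r : KA P e →ₗ[P] KA P e) = prK r := (eb P e).ext fun I => by
    rw [kproj_eb, prK_eb]
  rw [h]

theorem kd_eq (φ : Module.Dual P (Fin e → P)) (z : KA P e) : kd φ z = CliffordAlgebra.contractLeft φ z := rfl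

variable {P' : Type u} [CommRing P'] (θ : P →+* P')

variable (e) in
/-- `θ` on vectors -/
def cv : (Fin e → P) →ₛₗ[θ] (Fin e → P') where
  toFun v i := θ (v i)
  map_add' v v' := by funext i; exact map_add θ _ _
  map_smul' c v := by funext i; exact map_mul θ _ _

theorem cv_apply (v : Fin e → P) (i : Fin e) : cv e θ v i = θ (v i) := rfl

theorem kmap_eq (z : KA P e) : (letI := θ.toAlgebra; bcK P P' e z) = kmap θ (cv e θ) z := by
  letI := θ.toAlgebra
  refine ringHom_ext (f := (bcK P P' e : KA P e →ₐ[P] KA P' e).toRingHom) (g := kmap θ (cv e θ)) ?_ ?_ z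
  · intro x
    rw [kmap_algebraMap]
    exact (AlgHom.commutes (bcK P P' e) x).trans (IsScalarTower.algebraMap_apply P P' (KA P' e) x)
  · intro v
    rw [kmap_ι]
    exact bcK_ι P P' e v

end

end Groth.Agent.ResProp.EF.K224.Kos
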