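import Groth.Agent.ResProp.EF.K224.KozBC
import Groth.Agent.ResProp.EF.K734.KGpd

/-!
# (Q3) of the producer: `N1_x : bc (kozFD over P) x ≅ kozFD over BC x P`, compatible with `tr`; relations of `kozFD`
-/

set_option autoImplicit false
set_option linter.style.haveILetI false

universe u v

namespace Groth.Agent.ResProp.EF.K224

open TensorProduct Groth.Agent.ResProp.EF.K734 Groth.Agent.ResProp.EF.K280 Kos

/-! ### naturality and reindexing of `IsBCof` -/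

namespace IsBCof

variable {R R₁ R₂ : Type u} [CommRing R] [CommRing R₁] [CommRing R₂] {I I' : Type} {X : FD R I} {f : R →+* R₁}
  {f' : R →+* R₂} {g : R₁ →+* R₂} (h : g.comp f = f') {Y : FD R₁ I} {Y' : FD R₂ I}

/-- compatibility with `tr` -/
theorem ψ_tr (hY : IsBCof X f Y) (hY' : IsBCof X f' Y') (T : Y.K →ₛₗ[g] Y'.K) (hT : ∀ v, T (hY.κ v) = hY'.κ v)
    (z : (bc X f).K) : hY'.ψ (tr X g h z) = T (hY.ψ z) := by
  induction z using indK with
  | h0 => simp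
  | h2 a b ha hb => rw [map_add, map_add, map_add, map_add, ha, hb]
  | h1 r v =>
    have e1 : hY.ψ (r • canK X f v) = r • hY.κ v := by rw [map_smul, ψ_canK]
    have e2 : tr X g h (r • canK X f v) = g r • canK X f' v := by rw [map_smulₛₗ, tr_canK]
    have e3 : hY'.ψ (g r • canK X f' v) = g r • hY'.κ v := by rw [map_smul, ψ_canK]
    rw [e1, e2, e3, map_smulₛₗ, hT]

theorem φ_trP (hY : IsBCof X f Y) (hY' : IsBCof X f' Y') (T : Y.P →+* Y'.P)
    (hT' : ∀ r, T (algebraMap R₁ Y.P r) = algebraMap R₂ Y'.P (g r)) (hT : ∀ v, T (hY.θ v) = hY'.θ v)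
    (z : (bc X f).P) : hY'.φ (trP X g h z) = T (hY.φ z) := by
  induction z using indP with
  | h0 => simp
  | h2 a b ha hb => rw [map_add, map_add, map_add, map_add, ha, hb]
  | h1 r v =>
    have e1 : hY.φ (r • canP X f v) = r • hY.θ v := by rw [map_smul, φ_canP]
    have e2 : trP X g h (r • canP X f v) = g r • canP X f' v := by rw [trP_smul, trP_canP]
    have e3 : hY'.φ (g r • canP X f' v) = g r • hY'.θ v := by rw [map_smul, φ_canP]
    rw [e1, e2, e3, Algebra.smul_def, Algebra.smul_def, map_mul, hT', hT]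

/-- reindexing of the operators -/
def re (hY : IsBCof X f Y) (σ : I' → I) : IsBCof (X.re σ) f (Y.re σ) where
  θ := hY.θ
  hθ := hY.hθ
  κ := hY.κ
  smul := hY.smul
  bcP := hY.bcP
  bcK := hY.bcK
  fil := hY.fil
  filK := hY.filK
  op i v := hY.op (σ i) v

end IsBCof

/-! ### the base changed filtration -/

section

variable {P P₁ : Type u} [CommRing P] [CommRing P₁] {e : ℕ}

/-- the base changed filtration -/
def bcMFil (F : K734.MFil P) (θ : P →+* P₁) : K734.MFil P₁ where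
  F n := (F.F n).map θ
  zero := by rw [F.zero, Ideal.map_top]
  succ n := Ideal.map_mono (F.succ n)
  mul m n x y hx hy := by
    have h : (F.F m).map θ * (F.F n).map θ ≤ (F.F (m + n)).map θ := by
      rw [← Ideal.map_mul]
      exact Ideal.map_mono (Ideal.mul_le.2 fun a ha b hb => F.mul m n a b ha hb)
    exact h (Ideal.mul_mem_mul hx hy)

theorem bcMFil_F (F : K734.MFil P) (θ : P →+* P₁) (n : ℕ) : (bcMFil F θ).F n = (F.F n).map θ := rfl

theorem wtFil_G (F : K734.MFil P) (wt : Fin e → ℕ) (m : ℕ) : (wtFil F wt).G m = FilE F.F wt m := rfl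

theorem dualOf_single (u : Fin e → P) (i : Fin e) : dualOf u (Pi.single i 1) = u i := by
  classical
  rw [dualOf_apply, Finset.sum_eq_single i]
  · rw [Pi.single_eq_same, one_mul]
  · intro j _ hj
    rw [Pi.single_eq_of_ne hj, zero_mul]
  · intro h
    exact absurd (Finset.mem_univ i) h

end

section N1

variable {R R₁ R₂ P P₁ P₂ : Type u} [CommRing R] [CommRing R₁] [CommRing R₂] [CommRing P] [CommRing P₁] [CommRing P₂]
  [Algebra R P] [Algebra R₁ P₁] [Algebra R₂ P₂] {e : ℕ}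

variable (R) in
/-- 734's Koszul `FD` of weighted elements `u i ∈ F (wt i)` -/
noncomputable abbrev kfd (F : K734.MFil P) (wt : Fin e → ℕ) (u : Fin e → P) (hu : ∀ i, u i ∈ F.F (wt i)) (k : ℕ) :
    FD R (Option ℕ) := kozFD (R := R) F (wtFil F wt) (dualOf u) (dualOf_mem F wt hu) k

variable {f : R →+* R₁} {θ : P →+* P₁} {hθ : ∀ r, θ (algebraMap R P r) = algebraMap R₁ P₁ (f r)}
  {F : K734.MFil P} {F₁ : K734.MFil P₁} {wt : Fin e → ℕ} {u : Fin e → P} {u₁ : Fin e → P₁}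

/-- `kfd` commutes with base change -/
noncomputable def kfdIsBC (hbc : BCr f θ hθ) (hF : ∀ m, F₁.F m = (F.F m).map θ) (hu : ∀ i, u i ∈ F.F (wt i))
    (hu₁ : ∀ i, u₁ i ∈ F₁.F (wt i)) (hc : ∀ i, u₁ i = θ (u i)) (k : ℕ) :
    IsBCof (kfd R F wt u hu k) f (kfd R₁ F₁ wt u₁ hu₁ k) :=
  kozIsBC θ hθ hbc hF (wtFil_G F wt) (wtFil_G F₁ wt) (dualOf u) (dualOf u₁) (dualOf_mem F wt hu) (dualOf_mem F₁ wt hu₁)
    (fun i => by rw [dualOf_single, dualOf_single, hc]) k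

/-- the same over the base changed filtration -/
noncomputable def kfdIsBC' (hbc : BCr f θ hθ) (F : K734.MFil P) (wt : Fin e → ℕ) (u : Fin e → P)
    (hu : ∀ i, u i ∈ F.F (wt i)) (k : ℕ) :
    IsBCof (kfd R F wt u hu k) f
      (kfd R₁ (bcMFil F θ) wt (fun i => θ (u i)) (fun i => Ideal.mem_map_of_mem θ (hu i)) k) :=
  kfdIsBC hbc (fun _ => rfl) hu _ (fun _ => rfl) k

theorem kfdIsBC_κ (hbc : BCr f θ hθ) (hF : ∀ m, F₁.F m = (F.F m).map θ) (hu : ∀ i, u i ∈ F.F (wt i))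
    (hu₁ : ∀ i, u₁ i ∈ F₁.F (wt i)) (hc : ∀ i, u₁ i = θ (u i)) (k : ℕ) (z : ExteriorAlgebra P (Fin e → P)) :
    (kfdIsBC hbc hF hu hu₁ hc k).κ ((filA F (wtFil F wt) (k + 1)).mkQ z) =
      (filA F₁ (wtFil F₁ wt) (k + 1)).mkQ (kmap θ (cv e θ) z) := rfl

/-- (Q3) with 980's `BC` -/
noncomputable def N1 (x : R →+* R₁) (F : K734.MFil P) (wt : Fin e → ℕ) (u : Fin e → P) (hu : ∀ i, u i ∈ F.F (wt i))
    (k : ℕ) : FD.SIso (bc (kfd R F wt u hu k) x)
      (kfd R₁ (bcMFil F (K980.BC.bcHom x)) wt (fun i => K980.bc x (u i)) (fun i => Ideal.mem_map_of_mem _ (hu i)) k) :=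
  (kfdIsBC' (BCr_bcHom (f := x)) F wt u hu k).siso

theorem N1_φ_canP (x : R →+* R₁) (F : K734.MFil P) (wt : Fin e → ℕ) (u : Fin e → P) (hu : ∀ i, u i ∈ F.F (wt i))
    (k : ℕ) (p : P) : (N1 x F wt u hu k).φ (canP (kfd R F wt u hu k) x p) = K980.bc x p :=
  (kfdIsBC' (BCr_bcHom (f := x)) F wt u hu k).φ_canP p

theorem N1_ψ_canK (x : R →+* R₁) (F : K734.MFil P) (wt : Fin e → ℕ) (u : Fin e → P) (hu : ∀ i, u i ∈ F.F (wt i))
    (k : ℕ) (z : ExteriorAlgebra P (Fin e → P)) :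
    (N1 x F wt u hu k).ψ (canK (kfd R F wt u hu k) x ((filA F (wtFil F wt) (k + 1)).mkQ z)) =
      (filA (bcMFil F (K980.BC.bcHom x)) (wtFil _ wt) (k + 1)).mkQ
        (kmap (K980.BC.bcHom x) (cv e (K980.BC.bcHom x)) z) :=
  (kfdIsBC' (BCr_bcHom (f := x)) F wt u hu k).ψ_canK _

section tr

variable {f' : R →+* R₂} {g : R₁ →+* R₂} (h : g.comp f = f') {θ' : P →+* P₂}
  {hθ' : ∀ r, θ' (algebraMap R P r) = algebraMap R₂ P₂ (f' r)} {θ₂ : P₁ →+* P₂}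
  (hθ₂ : ∀ r, θ₂ (algebraMap R₁ P₁ r) = algebraMap R₂ P₂ (g r)) (hcomp : ∀ p, θ' p = θ₂ (θ p))
  {F₂ : K734.MFil P₂} {u₂ : Fin e → P₂}

include hcomp in
/-- (Q3) compatibility with `tr`, modules -/
theorem kfd_ψ_tr (hbc : BCr f θ hθ) (hF : ∀ m, F₁.F m = (F.F m).map θ) (hu : ∀ i, u i ∈ F.F (wt i))
    (hu₁ : ∀ i, u₁ i ∈ F₁.F (wt i)) (hc : ∀ i, u₁ i = θ (u i))
    (hbc' : BCr f' θ' hθ') (hF₂ : ∀ m, F₂.F m = (F.F m).map θ') (hu₂ : ∀ i, u₂ i ∈ F₂.F (wt i))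
    (hc₂ : ∀ i, u₂ i = θ' (u i)) (k : ℕ) (hF' : ∀ m x, x ∈ F₁.F m → θ₂ x ∈ F₂.F m)
    (hε : ∀ m v, v ∈ (wtFil F₁ wt).G m → cv e θ₂ v ∈ (wtFil F₂ wt).G m) (z : (bc (kfd R F wt u hu k) f).K) :
    (kfdIsBC hbc' hF₂ hu hu₂ hc₂ k).ψ (tr (kfd R F wt u hu k) g h z) =
      kozK θ₂ hθ₂ k hF' hε ((kfdIsBC hbc hF hu hu₁ hc k).ψ z) := by
  refine IsBCof.ψ_tr (X := kfd R F wt u hu k) (Y := kfd R₁ F₁ wt u₁ hu₁ k) (Y' := kfd R₂ F₂ wt u₂ hu₂ k) h
    (kfdIsBC hbc hF hu hu₁ hc k) (kfdIsBC hbc' hF₂ hu hu₂ hc₂ k) (kozK θ₂ hθ₂ k hF' hε) (fun v => ?_) z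
  obtain ⟨y, rfl⟩ := Submodule.mkQ_surjective _ v
  change (filA F₂ (wtFil F₂ wt) (k + 1)).mkQ (kmap θ₂ (cv e θ₂) (kmap θ (cv e θ) y)) =
    (filA F₂ (wtFil F₂ wt) (k + 1)).mkQ (kmap θ' (cv e θ') y)
  rw [kmap_comp' θ (cv e θ) θ₂ (cv e θ₂) θ' (cv e θ') hcomp (fun v => by
    funext i
    exact hcomp (v i))]

include hθ₂ hcomp in
/-- (Q3) compatibility with `tr`, rings -/
theorem kfd_φ_tr (hbc : BCr f θ hθ) (hF : ∀ m, F₁.F m = (F.F m).map θ) (hu : ∀ i, u i ∈ F.F (wt i))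
    (hu₁ : ∀ i, u₁ i ∈ F₁.F (wt i)) (hc : ∀ i, u₁ i = θ (u i))
    (hbc' : BCr f' θ' hθ') (hF₂ : ∀ m, F₂.F m = (F.F m).map θ') (hu₂ : ∀ i, u₂ i ∈ F₂.F (wt i))
    (hc₂ : ∀ i, u₂ i = θ' (u i)) (k : ℕ) (z : (bc (kfd R F wt u hu k) f).P) :
    (kfdIsBC hbc' hF₂ hu hu₂ hc₂ k).φ (trP (kfd R F wt u hu k) g h z) =
      θ₂ ((kfdIsBC hbc hF hu hu₁ hc k).φ z) :=
  IsBCof.φ_trP (X := kfd R F wt u hu k) (Y := kfd R₁ F₁ wt u₁ hu₁ k) (Y' := kfd R₂ F₂ wt u₂ hu₂ k) h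
    (kfdIsBC hbc hF hu hu₁ hc k) (kfdIsBC hbc' hF₂ hu hu₂ hc₂ k) θ₂ hθ₂ (fun p => (hcomp p).symm) z

end tr

end N1

/-! ### relations of `kozFD` -/

section Rel

variable {R P : Type u} [CommRing R] [CommRing P] [Algebra R P] {e : ℕ} (F : K734.MFil P) (wt : Fin e → ℕ)
  (u : Fin e → P) (hu : ∀ i, u i ∈ F.F (wt i)) (k : ℕ)

instance : Module.Finite P (ExteriorAlgebra P (Fin e → P) ⧸ filA F (wtFil F wt) (k + 1)) := inferInstance

theorem kfd_finite : Module.Finite (kfd R F wt u hu k).P (kfd R F wt u hu k).K :=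
  inferInstanceAs (Module.Finite P (ExteriorAlgebra P (Fin e → P) ⧸ filA F (wtFil F wt) (k + 1)))

theorem kfd_d_d (v : (kfd R F wt u hu k).K) :
    (kfd R F wt u hu k).op none ((kfd R F wt u hu k).op none v) = 0 := by
  obtain ⟨z, rfl⟩ := Submodule.mkQ_surjective _ v
  change (filA F (wtFil F wt) (k + 1)).mkQ (kd (dualOf u) (kd (dualOf u) z)) = 0
  rw [kd_kd, map_zero]

theorem kfd_pr_d (r : ℕ) (v : (kfd R F wt u hu k).K) :
    (kfd R F wt u hu k).op (some r) ((kfd R F wt u hu k).op none v) =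
      (kfd R F wt u hu k).op none ((kfd R F wt u hu k).op (some (r + 1)) v) := by
  obtain ⟨z, rfl⟩ := Submodule.mkQ_surjective _ v
  change (filA F (wtFil F wt) (k + 1)).mkQ (kproj r (kd (dualOf u) z)) =
    (filA F (wtFil F wt) (k + 1)).mkQ (kd (dualOf u) (kproj (r + 1) z))
  rw [kproj_kd]

theorem kfd_d_pr_zero (v : (kfd R F wt u hu k).K) :
    (kfd R F wt u hu k).op none ((kfd R F wt u hu k).op (some 0) v) = 0 := by
  obtain ⟨z, rfl⟩ := Submodule.mkQ_surjective _ v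
  change (filA F (wtFil F wt) (k + 1)).mkQ (kd (dualOf u) (kproj 0 z)) = 0
  have : kd (dualOf u) (kproj 0 z) = 0 := by
    induction z using left_ind with
    | h0 x => rw [kproj_algebraMap, if_pos rfl, kd_algebraMap]
    | h1 y z hy hz => rw [map_add, map_add, hy, hz, add_zero]
    | h2 v z hz => rw [kproj_ι_mul_zero, map_zero]
  rw [this, map_zero]

theorem kfd_pr_idem (r : ℕ) (v : (kfd R F wt u hu k).K) :
    (kfd R F wt u hu k).op (some r) ((kfd R F wt u hu k).op (some r) v) = (kfd R F wt u hu k).op (some r) v := by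
  obtain ⟨z, rfl⟩ := Submodule.mkQ_surjective _ v
  change (filA F (wtFil F wt) (k + 1)).mkQ (kproj r (kproj r z)) = (filA F (wtFil F wt) (k + 1)).mkQ (kproj r z)
  rw [kproj_eq, kproj_eq, prK_prK_self]

theorem kfd_pr_orth {r s : ℕ} (h : r ≠ s) (v : (kfd R F wt u hu k).K) :
    (kfd R F wt u hu k).op (some r) ((kfd R F wt u hu k).op (some s) v) = 0 := by
  obtain ⟨z, rfl⟩ := Submodule.mkQ_surjective _ v
  change (filA F (wtFil F wt) (k + 1)).mkQ (kproj r (kproj s z)) = 0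
  rw [kproj_eq, kproj_eq, prK_prK_of_ne h, map_zero]

theorem kfd_pr_sum (v : (kfd R F wt u hu k).K) :
    ∑ r ∈ Finset.range (e + 1), (kfd R F wt u hu k).op (some r) v = v := by
  obtain ⟨z, rfl⟩ := Submodule.mkQ_surjective _ v
  change ∑ r ∈ Finset.range (e + 1), (filA F (wtFil F wt) (k + 1)).mkQ (kproj r z) =
    (filA F (wtFil F wt) (k + 1)).mkQ z
  rw [← map_sum]
  congr 1
  simp_rw [kproj_eq]
  exact sum_prK z

theorem kfd_pr_of_lt {r : ℕ} (h : e < r) (v : (kfd R F wt u hu k).K) : (kfd R F wt u hu k).op (some r) v = 0 := by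
  obtain ⟨z, rfl⟩ := Submodule.mkQ_surjective _ v
  change (filA F (wtFil F wt) (k + 1)).mkQ (kproj r z) = 0
  rw [kproj_eq, prK_of_lt h, map_zero]

/-- `K = ∏_I P / F (k + 1 - wt I)` -/
noncomputable def kfdEquiv : (ExteriorAlgebra P (Fin e → P) ⧸ filA F (wtFil F wt) (k + 1)) ≃ₗ[P]
    (∀ I : Finset (Fin e), P ⧸ F.F (k + 1 - Kos.wt wt I)) :=
  (Submodule.quotEquivOfEq _ _ (filA_eq (wtFil_G F wt) (k + 1))).trans (KKequiv F.F wt k)

theorem kfdEquiv_mk (z : ExteriorAlgebra P (Fin e → P)) (I : Finset (Fin e)) :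
    kfdEquiv F wt k ((filA F (wtFil F wt) (k + 1)).mkQ z) I =
      (F.F (k + 1 - Kos.wt wt I)).mkQ ((eb P e).repr z I) := rfl

/-- 734's filtration of the exterior algebra in coordinates, `wtFil` form -/
theorem filA_wtFil (m : ℕ) : filA F (wtFil F wt) m = FilK F.F wt m := filA_eq (wtFil_G F wt) m

end Rel

end Groth.Agent.ResProp.EF.K224
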