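import Groth.Agent.ResProp.EF.K224.TruncLoc
import Mathlib.Algebra.Category.ModuleCat.Localization
import Mathlib.Algebra.Category.ModuleCat.ChangeOfRingsExact
import Mathlib.Algebra.Homology.HomologySequenceLemmas
import Mathlib.Algebra.Homology.ShortComplex.ModuleCat
import Mathlib.Algebra.Homology.Additive
import Mathlib.RingTheory.Flat.Localization
import Mathlib.CategoryTheory.Preadditive.LeftExact
import Mathlib.Algebra.Homology.HomologicalComplexAbelian
import Mathlib.Algebra.Homology.QuasiIso

/-!
# S16912, section 4.1: localizing a complex at `1 + J`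
-/

set_option autoImplicit false

universe u

open CategoryTheory CategoryTheory.Limits

namespace K224.EF

variable {P : Type u} [CommRing P]

/-- Localization at `S` as an endofunctor of `P`-modules. -/
noncomputable def locF (S : Submonoid P) : ModuleCat.{u} P ⥤ ModuleCat.{u} P where
  obj M := ModuleCat.of P (LocalizedModule S M)
  map {M N} f := ModuleCat.ofHom (IsLocalizedModule.map S (LocalizedModule.mkLinearMap S M)
    (LocalizedModule.mkLinearMap S N) f.hom)
  map_id M := by
    ext x
    simp
  map_comp {M N L} f g := by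
    ext x
    simp [IsLocalizedModule.map_comp' S _ (LocalizedModule.mkLinearMap S N)]

instance (S : Submonoid P) : (locF S).Additive where
  map_add {M N f g} := by
    ext x
    change (IsLocalizedModule.map S (LocalizedModule.mkLinearMap S M)
      (LocalizedModule.mkLinearMap S N) (f.hom + g.hom)) x = _
    rw [map_add]
    rfl

/-- The localization map. -/
noncomputable def locη (S : Submonoid P) : 𝟭 (ModuleCat.{u} P) ⟶ locF S where
  app M := ModuleCat.ofHom (LocalizedModule.mkLinearMap S M)
  naturality {M N} f := by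
    ext x
    exact (IsLocalizedModule.map_apply S (LocalizedModule.mkLinearMap S M)
      (LocalizedModule.mkLinearMap S N) f.hom x).symm

lemma locF_map_exact (S : Submonoid P) (T : ShortComplex (ModuleCat.{u} P)) (h : T.Exact) :
    (T.map (locF S)).Exact := by
  rw [CategoryTheory.ShortComplex.ShortExact.moduleCat_exact_iff_function_exact] at h
  refine (CategoryTheory.ShortComplex.ShortExact.moduleCat_exact_iff_function_exact _).mpr ?_
  exact IsLocalizedModule.map_exact S (LocalizedModule.mkLinearMap S T.X₁)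
    (LocalizedModule.mkLinearMap S T.X₂) (LocalizedModule.mkLinearMap S T.X₃) _ _ h

instance (S : Submonoid P) : PreservesFiniteLimits (locF S) := by
  have := ((Functor.exact_tfae _).out 1 3).mp (locF_map_exact S)
  exact this.1

instance (S : Submonoid P) : PreservesFiniteColimits (locF S) := by
  have := ((Functor.exact_tfae _).out 1 3).mp (locF_map_exact S)
  exact this.2

section
variable {ι : Type*} {c : ComplexShape ι}

/-- A degreewise short exact sequence of complexes with acyclic kernel: the epimorphism is a quasi-isomorphism. -/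
lemma quasiIso_of_acyclic (E : ShortComplex (HomologicalComplex (ModuleCat.{u} P) c)) (hE : E.ShortExact)
    (h : E.X₁.Acyclic) : QuasiIso E.g := by
  rw [quasiIso_iff]
  intro i
  rw [quasiIsoAt_iff_isIso_homologyMap]
  have h1 : ∀ i, IsZero (E.X₁.homology i) := fun i => (h i).isZero_homology
  have hmono : Mono (HomologicalComplex.homologyMap E.g i) := by
    have := hE.homology_exact₂ i
    exact this.mono_g ((h1 i).eq_of_src _ _)
  have hepi : Epi (HomologicalComplex.homologyMap E.g i) := by
    by_cases hi : ∃ j, c.Rel i j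
    · obtain ⟨j, hij⟩ := hi
      exact (hE.homology_exact₃ i j hij).epi_f ((h1 j).eq_of_tgt _ _)
    · have := hE.epi_g
      exact HomologicalComplex.epi_homologyMap_of_epi_of_not_rel E.g i (by simpa using hi)
  exact isIso_of_mono_of_epi _

/-- Localizing kills a complex whose homology is killed by elements of `S`. -/
lemma acyclic_loc (S : Submonoid P) (F : HomologicalComplex (ModuleCat.{u} P) c)
    (hF : ∀ i, ∃ s ∈ S, ∀ z : F.X i, F.d i (c.next i) z = 0 → ∃ a : F.X (c.prev i), s • z = F.d (c.prev i) i a) :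
    (((locF S).mapHomologicalComplex c).obj F).Acyclic := by
  intro i
  rw [HomologicalComplex.exactAt_iff' _ (c.prev i) i (c.next i) rfl rfl]
  refine (CategoryTheory.ShortComplex.ShortExact.moduleCat_exact_iff_function_exact _).mpr ?_
  obtain ⟨s, hs, H⟩ := hF i
  intro y
  constructor
  · intro hy
    obtain ⟨⟨z, t⟩, rfl⟩ := IsLocalizedModule.mk'_surjective S (LocalizedModule.mkLinearMap S (F.X i)) y
    have h2 : IsLocalizedModule.map S (LocalizedModule.mkLinearMap S (F.X i))
      (LocalizedModule.mkLinearMap S (F.X (c.next i))) (F.d i (c.next i)).hom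
      (IsLocalizedModule.mk' (LocalizedModule.mkLinearMap S (F.X i)) z t) = 0 := hy
    rw [IsLocalizedModule.map_mk', IsLocalizedModule.mk'_eq_zero'] at h2
    obtain ⟨v, hv⟩ := h2
    obtain ⟨a, ha⟩ := H ((v : P) • z) (by
      have : F.d i (c.next i) ((v : P) • z) = (v : P) • F.d i (c.next i) z := map_smul _ _ _
      rw [this]; exact hv)
    let w : LocalizedModule S (F.X (c.prev i)) :=
      IsLocalizedModule.mk' (LocalizedModule.mkLinearMap S (F.X (c.prev i))) a (t * v * ⟨s, hs⟩)
    refine ⟨w, ?_⟩
    change IsLocalizedModule.map S (LocalizedModule.mkLinearMap S (F.X (c.prev i)))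
      (LocalizedModule.mkLinearMap S (F.X i)) (F.d (c.prev i) i).hom _ = _
    rw [IsLocalizedModule.map_mk']
    refine (IsLocalizedModule.mk'_eq_mk'_iff (LocalizedModule.mkLinearMap S (F.X i)) _ _ _ _).mpr ⟨1, ?_⟩
    have ha' : (F.d (c.prev i) i).hom a = s • (v : P) • z := ha.symm
    rw [ha']
    simp only [one_smul, Submonoid.smul_def, Submonoid.coe_mul, smul_smul]
    congr 1
    ring
  · rintro ⟨x, rfl⟩
    exact ShortComplex.moduleCat_zero_apply
      ((((locF S).mapHomologicalComplex c).obj F).sc' (c.prev i) i (c.next i)) x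

/-- **4.1 (L2).**  `0 → F → K → Q → 0` short exact, the homology of `F` killed by elements of `S`, `S` acting
bijectively on `Q`: then `S⁻¹K → Q` is a quasi-isomorphism. -/
theorem exists_quasiIso_loc (S : Submonoid P) (E : ShortComplex (HomologicalComplex (ModuleCat.{u} P) c))
    (hE : E.ShortExact)
    (hF : ∀ i, ∃ s ∈ S, ∀ z : E.X₁.X i, E.X₁.d i (c.next i) z = 0 →
      ∃ a : E.X₁.X (c.prev i), s • z = E.X₁.d (c.prev i) i a)
    (hQ : ∀ i, ∀ s ∈ S, Function.Bijective (fun x : E.X₃.X i => s • x)) :
    ∃ φ : ((locF S).mapHomologicalComplex c).obj E.X₂ ⟶ E.X₃, QuasiIso φ ∧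
      ∀ i, (locη S).app (E.X₂.X i) ≫ φ.f i = E.g.f i := by
  have h1 := acyclic_loc S E.X₁ hF
  have hη : ∀ i, IsIso ((locη S).app (E.X₃.X i)) := by
    intro i
    rw [ConcreteCategory.isIso_iff_bijective]
    have hu : ∀ s : S, IsUnit (algebraMap P (Module.End P (E.X₃.X i)) s) := by
      intro s
      rw [Module.End.isUnit_iff]
      exact hQ i s s.2
    have : IsLocalizedModule S (LinearMap.id : E.X₃.X i →ₗ[P] E.X₃.X i) :=
      { map_units := hu
        surj := fun y => ⟨(y, 1), by simp⟩
        exists_of_eq := fun h => ⟨1, by simpa using h⟩ }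
    have e := IsLocalizedModule.linearEquiv S (LinearMap.id : E.X₃.X i →ₗ[P] E.X₃.X i)
      (LocalizedModule.mkLinearMap S (E.X₃.X i))
    have he : ∀ x, IsLocalizedModule.linearEquiv S (LinearMap.id : E.X₃.X i →ₗ[P] E.X₃.X i)
      (LocalizedModule.mkLinearMap S (E.X₃.X i)) x = LocalizedModule.mkLinearMap S (E.X₃.X i) x := by
      intro x
      simpa using IsLocalizedModule.linearEquiv_apply S (LinearMap.id : E.X₃.X i →ₗ[P] E.X₃.X i)
        (LocalizedModule.mkLinearMap S (E.X₃.X i)) x
    have hb := (IsLocalizedModule.linearEquiv S (LinearMap.id : E.X₃.X i →ₗ[P] E.X₃.X i)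
      (LocalizedModule.mkLinearMap S (E.X₃.X i))).bijective
    have : (⇑(IsLocalizedModule.linearEquiv S (LinearMap.id : E.X₃.X i →ₗ[P] E.X₃.X i)
      (LocalizedModule.mkLinearMap S (E.X₃.X i)))) = ⇑(LocalizedModule.mkLinearMap S (E.X₃.X i)) := funext he
    rw [this] at hb
    exact hb
  let ηc : E.X₃ ⟶ ((locF S).mapHomologicalComplex c).obj E.X₃ :=
    { f := fun i => (locη S).app (E.X₃.X i)
      comm' := fun i j _ => ((locη S).naturality (E.X₃.d i j)).symm }
  have hηc : IsIso ηc := by
    have : ∀ i, IsIso (ηc.f i) := hη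
    exact HomologicalComplex.Hom.isIso_of_components ηc
  let G := (locF S).mapHomologicalComplex c
  have hGE : (E.map G).ShortExact := by
    apply HomologicalComplex.shortExact_of_degreewise_shortExact
    intro i
    have := ((HomologicalComplex.shortExact_iff_degreewise_shortExact E).mp hE i).map_of_exact (locF S)
    exact this
  have hq : QuasiIso (G.map E.g) := quasiIso_of_acyclic (E.map G) hGE h1
  refine ⟨G.map E.g ≫ inv ηc, inferInstance, fun i => ?_⟩
  have h2 : E.g ≫ ηc = (show E.X₂ ⟶ G.obj E.X₂ from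
    { f := fun i => (locη S).app (E.X₂.X i)
      comm' := fun i j _ => ((locη S).naturality (E.X₂.d i j)).symm }) ≫ G.map E.g := by
    ext1 i
    exact (locη S).naturality (E.g.f i)
  have h3 : E.g = (show E.X₂ ⟶ G.obj E.X₂ from
    { f := fun i => (locη S).app (E.X₂.X i)
      comm' := fun i j _ => ((locη S).naturality (E.X₂.d i j)).symm }) ≫ G.map E.g ≫ inv ηc := by
    rw [← Category.assoc, ← h2, Category.assoc, IsIso.hom_inv_id, Category.comp_id]
  have := congrArg (fun q => q.f i) h3
  exact this.symm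

end

end K224.EF

namespace K224.EF

section
variable {P : Type u} [CommRing P] {ι : Type*} {c : ComplexShape ι}

/-- The submonoid `1 + J`. -/
def oneAdd (J : Ideal P) : Submonoid P where
  carrier := {s | s - 1 ∈ J}
  one_mem' := by simp
  mul_mem' {a b} ha hb := by
    have : a * b - 1 = a * (b - 1) + (a - 1) := by ring
    change a * b - 1 ∈ J
    rw [this]
    exact J.add_mem (J.mul_mem_left _ hb) ha

lemma flat_loc (S : Submonoid P) (M : ModuleCat.{u} P) [Module.Flat P M] : Module.Flat P ((locF S).obj M) := by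
  have h1 : Module.Flat P (Localization S) := IsLocalization.flat (Localization S) S
  have e := (IsLocalizedModule.isBaseChange S (Localization S) (LocalizedModule.mkLinearMap S M)).equiv
  exact Module.Flat.of_linearEquiv (e.restrictScalars P).symm

lemma isZero_loc (S : Submonoid P) (M : ModuleCat.{u} P) (h : IsZero M) : IsZero ((locF S).obj M) :=
  (locF S).map_isZero h

/-- `1 + J` acts bijectively on a module killed by a power of `J`. -/
lemma bijective_smul_of_pow (J : Ideal P) {M : Type*} [AddCommGroup M] [Module P M] {n : ℕ}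
    (h : ∀ j ∈ J ^ n, ∀ x : M, j • x = 0) {s : P} (hs : s - 1 ∈ J) :
    Function.Bijective (fun x : M => s • x) := by
  -- an inverse of `s` modulo `J ^ n`
  obtain ⟨t, ht⟩ : ∃ t : P, s * t - 1 ∈ J ^ n := by
    have : (s * ∑ i ∈ Finset.range n, (1 - s) ^ i) - 1 = - (1 - s) ^ n := by
      have h1 := mul_neg_geom_sum (1 - s) n
      have h2 : (1 : P) - (1 - s) = s := by ring
      rw [h2] at h1
      rw [h1]; ring
    refine ⟨∑ i ∈ Finset.range n, (1 - s) ^ i, ?_⟩
    rw [this]
    refine neg_mem (Ideal.pow_mem_pow ?_ n)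
    rw [← neg_sub]; exact neg_mem hs
  have e : ∀ x : M, (s * t) • x = x := by
    intro x
    have := h _ ht x
    rw [sub_smul, one_smul, sub_eq_zero] at this
    exact this
  constructor
  · intro x y hxy
    have hxy' : s • x = s • y := hxy
    rw [← e x, ← e y, mul_comm, mul_smul, mul_smul, hxy']
  · intro y
    exact ⟨t • y, by change s • t • y = y; rw [← mul_smul]; exact e y⟩

/-- **4.1 (L1 + L2).**  Let `K` be a complex of finite modules over a Noetherian ring `P`, filtered by subcomplexes
`Fil n` which are cofinal with the `J`-adic ones, with acyclic graded pieces in degrees `≥ n₀`.  Then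
`(1 + J)⁻¹ K → K / Fil n₀` is a quasi-isomorphism; its source consists of flat modules if `K` does. -/
theorem exists_flat_model [IsNoetherianRing P] (J : Ideal P)
    (E : ShortComplex (HomologicalComplex (ModuleCat.{u} P) c)) (hE : E.ShortExact)
    [∀ i, Module.Finite P (E.X₂.X i)]
    (Fil : ℕ → ∀ i, Submodule P (E.X₂.X i)) (n₀ : ℕ)
    (hrange : ∀ i, LinearMap.range (E.f.f i).hom = Fil n₀ i)
    (hanti : ∀ n, n₀ ≤ n → ∀ i, Fil n i ≤ Fil n₀ i)
    (hJ : ∀ i, J ^ n₀ • (⊤ : Submodule P (E.X₂.X i)) ≤ Fil n₀ i)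
    (hdeep : ∀ m i, ∃ n, n₀ ≤ n ∧ Fil n i ≤ J ^ m • (⊤ : Submodule P (E.X₂.X i)))
    (hgr : ∀ i n, n₀ ≤ n → ∀ z ∈ Fil n i, E.X₂.d i (c.next i) z = 0 →
      ∃ a ∈ Fil n (c.prev i), z - E.X₂.d (c.prev i) i a ∈ Fil (n + 1) i) :
    ∃ φ : ((locF (oneAdd J)).mapHomologicalComplex c).obj E.X₂ ⟶ E.X₃, QuasiIso φ ∧
      ∀ i, (locη (oneAdd J)).app (E.X₂.X i) ≫ φ.f i = E.g.f i := by
  have hdeg := fun i => (HomologicalComplex.shortExact_iff_degreewise_shortExact E).mp hE i
  have hinj : ∀ i, Function.Injective (E.f.f i) := fun i =>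
    (ModuleCat.mono_iff_injective _).mp (hdeg i).mono_f
  have hsurj : ∀ i, Function.Surjective (E.g.f i) := fun i =>
    (ModuleCat.epi_iff_surjective _).mp (hdeg i).epi_g
  have hzero : ∀ i, ∀ x ∈ Fil n₀ i, E.g.f i x = 0 := by
    intro i x hx
    rw [← hrange i] at hx
    obtain ⟨y, rfl⟩ := hx
    exact ShortComplex.moduleCat_zero_apply (E.map (HomologicalComplex.eval _ c i)) y
  refine exists_quasiIso_loc (oneAdd J) E hE (fun i => ?_) (fun i s hs => ?_)
  · obtain ⟨s, hs, H⟩ := exists_one_add_smul J (E.X₂.d (c.prev i) i).hom (E.X₂.d i (c.next i)).hom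
      (by
        have := E.X₂.d_comp_d (c.prev i) i (c.next i)
        exact congrArg ModuleCat.Hom.hom this)
      (fun n => Fil n (c.prev i)) (fun n => Fil n i) n₀ (fun n hn => hanti n hn _) (hJ i)
      (fun m => hdeep m i) (fun n hn z hz h0 => hgr i n hn z hz h0)
    refine ⟨s, hs, fun z hz => ?_⟩
    have hz' : E.X₂.d i (c.next i) (E.f.f i z) = 0 := by
      have := congrArg (fun q : _ ⟶ _ => (ModuleCat.Hom.hom q) z) (E.f.comm i (c.next i))
      have h2 : E.X₂.d i (c.next i) (E.f.f i z) = E.f.f (c.next i) (E.X₁.d i (c.next i) z) := this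
      rw [h2, hz, map_zero]
    obtain ⟨a, ha, hs'⟩ := H (E.f.f i z) (by rw [← hrange i]; exact ⟨z, rfl⟩) hz'
    have ha' : a ∈ LinearMap.range (E.f.f (c.prev i)).hom := by rw [hrange]; exact ha
    obtain ⟨b, rfl⟩ := ha'
    refine ⟨b, hinj i ?_⟩
    have h3 : E.f.f i (s • z) = s • E.f.f i z := map_smul _ _ _
    rw [h3]
    have h4 : E.X₂.d (c.prev i) i (E.f.f (c.prev i) b) = E.f.f i (E.X₁.d (c.prev i) i b) :=
      congrArg (fun q : _ ⟶ _ => (ModuleCat.Hom.hom q) b) (E.f.comm (c.prev i) i)
    exact hs'.trans h4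
  · refine bijective_smul_of_pow J (n := n₀) (fun j hj x => ?_) hs
    obtain ⟨y, rfl⟩ := hsurj i x
    have : E.g.f i (j • y) = j • E.g.f i y := map_smul _ _ _
    rw [← this]
    exact hzero i _ (hJ i (Submodule.smul_mem_smul hj Submodule.mem_top))

end

end K224.EF
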