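import Mathlib.RingTheory.Nakayama
import Mathlib.RingTheory.Filtration
import Mathlib.Algebra.Module.LocalizedModule.Basic
import Mathlib.Algebra.Module.LocalizedModule.Exact

/-!
# S16912, section 4.1: acyclicity of a deep filtration step after inverting `1 + J`

`A --f--> B --g--> C` three consecutive terms of a complex of finite modules over a Noetherian ring `P`,
with filtrations `FA`, `FB`.  If the associated graded complex is acyclic (at `B`) in all filtration degrees
`≥ n₀`, then the homology of the complex `F^{n₀}` at `B` is killed by an element of `1 + J`.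
-/

set_option autoImplicit false

namespace K224.EF

open Submodule

section
variable {P : Type*} [CommRing P] {A B C : Type*} [AddCommGroup A] [Module P A] [AddCommGroup B] [Module P B]
  [AddCommGroup C] [Module P C]

/-- Moving a cycle arbitrarily deep into the filtration. -/
theorem exists_deep (f : A →ₗ[P] B) (g : B →ₗ[P] C) (hgf : g ∘ₗ f = 0)
    (FA : ℕ → Submodule P A) (FB : ℕ → Submodule P B) {n₀ : ℕ}
    (hFA : ∀ n, n₀ ≤ n → FA n ≤ FA n₀)
    (hgr : ∀ n, n₀ ≤ n → ∀ z ∈ FB n, g z = 0 → ∃ a ∈ FA n, z - f a ∈ FB (n + 1))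
    {z : B} (hz : z ∈ FB n₀) (hgz : g z = 0) (n : ℕ) (hn : n₀ ≤ n) :
    ∃ a ∈ FA n₀, z - f a ∈ FB n := by
  induction n, hn using Nat.le_induction with
  | base => exact ⟨0, zero_mem _, by simpa using hz⟩
  | succ n hn ih =>
    obtain ⟨a, ha, haz⟩ := ih
    have h0 : g (z - f a) = 0 := by
      have := LinearMap.congr_fun hgf a
      simp only [LinearMap.comp_apply, LinearMap.zero_apply] at this
      rw [map_sub, hgz, this, sub_zero]
    obtain ⟨a', ha', haz'⟩ := hgr n hn _ haz h0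
    refine ⟨a + a', add_mem ha (hFA n hn ha'), ?_⟩
    rw [map_add, ← sub_sub]
    exact haz'

/-- **Section 4.1, key lemma.** -/
theorem exists_one_add_smul [IsNoetherianRing P] [Module.Finite P B] (J : Ideal P)
    (f : A →ₗ[P] B) (g : B →ₗ[P] C) (hgf : g ∘ₗ f = 0)
    (FA : ℕ → Submodule P A) (FB : ℕ → Submodule P B) (n₀ : ℕ)
    (hFA : ∀ n, n₀ ≤ n → FA n ≤ FA n₀)
    (hJ : J ^ n₀ • (⊤ : Submodule P B) ≤ FB n₀)
    (hdeep : ∀ m, ∃ n, n₀ ≤ n ∧ FB n ≤ J ^ m • (⊤ : Submodule P B))
    (hgr : ∀ n, n₀ ≤ n → ∀ z ∈ FB n, g z = 0 → ∃ a ∈ FA n, z - f a ∈ FB (n + 1)) :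
    ∃ s : P, s - 1 ∈ J ∧ ∀ z ∈ FB n₀, g z = 0 → ∃ a ∈ FA n₀, s • z = f a := by
  classical
  set Z : Submodule P B := LinearMap.ker g with hZ
  obtain ⟨c, hc⟩ := Ideal.exists_pow_inf_eq_pow_smul J Z
  set N' : Submodule P B := Z ⊓ FB n₀ with hN'
  set N : Submodule P B := (FA n₀).map f with hN
  have hfg : N'.FG := (isNoetherian_def.mp inferInstance) _
  have hcov : N' ≤ N ⊔ J • N' := by
    intro z hz
    obtain ⟨n, hn0, hn⟩ := hdeep (c + n₀ + 1)
    obtain ⟨a, ha, haz⟩ := exists_deep f g hgf FA FB hFA hgr hz.2 (LinearMap.mem_ker.mp hz.1) n hn0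
    have hz' : g (z - f a) = 0 := by
      have := LinearMap.congr_fun hgf a
      simp only [LinearMap.comp_apply, LinearMap.zero_apply] at this
      rw [map_sub, LinearMap.mem_ker.mp hz.1, this, sub_zero]
    have hmem : z - f a ∈ J ^ (c + n₀ + 1) • (⊤ : Submodule P B) ⊓ Z := ⟨hn haz, hz'⟩
    rw [hc (c + n₀ + 1) (by omega)] at hmem
    have hle : J ^ (c + n₀ + 1 - c) • (J ^ c • (⊤ : Submodule P B) ⊓ Z) ≤ J • N' := by
      have e : c + n₀ + 1 - c = n₀ + 1 := by omega
      rw [e, pow_succ', mul_smul]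
      refine smul_mono_right _ (le_inf ?_ ?_)
      · exact (smul_mono_right _ inf_le_right).trans smul_le_right
      · refine (smul_mono_right _ ?_).trans hJ
        exact le_top
    have := hle hmem
    have h2 : z = f a + (z - f a) := by abel
    rw [h2]
    exact add_mem (mem_sup_left (mem_map_of_mem ha)) (mem_sup_right this)
  obtain ⟨s, hs, hsN⟩ := Submodule.exists_sub_one_mem_and_smul_le_of_fg_of_le_sup hfg le_rfl hcov
  refine ⟨s, hs, fun z hz hgz => ?_⟩
  have : s • z ∈ N := hsN (Submodule.smul_mem_pointwise_smul z s N' ⟨LinearMap.mem_ker.mpr hgz, hz⟩)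
  obtain ⟨a, ha, hfa⟩ := this
  exact ⟨a, ha, hfa.symm⟩

end

end K224.EF
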